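import Mathlib
import Cfsg.Agent.FastGrp
import Cfsg.Agent.Prune
set_option linter.all false
prune_inst 0x7f00000000000000000000000000000000000000000000000000000000000000000000000000000000000000000000000000000000000000000000000000000000000000000000000000000000000000003fffffffffffffffffffffffffffbeffbdffffffff
open scoped Cfsg.Agent.FastGrp

/-!
# Transfer of an element of order four (S1758, helper577)

`transfer_eq`: `S ≤ G` of odd index, `φ : S → A` with `A` abelian, `u⁴ = 1`. If `φ` maps every conjugate of `u` in `S`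
to `c` (`c² = 1`) and every conjugate of `u²` in `S` to `1`, then the transfer of `u` is `c`. So if `c ≠ 1`, `G` is
not perfect (`false_of_transfer`).
-/

set_option autoImplicit false

namespace Cfsg.Agent.ClassificationK.SymplTransfer

open MulAction Subgroup

variable {G : Type*} [Group G]

theorem transfer_eq [Finite G] {S : Subgroup G} {A : Type*} [CommGroup A] (φ : S →* A)
    (hodd : Odd S.index) {u : G} (hu4 : u ^ 4 = 1) {c : A} (hcc : c ^ 2 = 1)
    (h1 : ∀ (g : G) (h : g⁻¹ * u * g ∈ S), φ ⟨_, h⟩ = c)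
    (h2 : ∀ (g : G) (h : g⁻¹ * u ^ 2 * g ∈ S), φ ⟨_, h⟩ = 1) : MonoidHom.transfer φ u = c := by
  classical
  have : Fintype (G ⧸ S) := Fintype.ofFinite _
  have : Fintype (Quotient (orbitRel (zpowers u) (G ⧸ S))) := Fintype.ofFinite _
  rw [MonoidHom.transfer_eq_prod_quotient_orbitRel_zpowers_quot]
  have aux : ∀ (m : ℕ) (g : G), m ∣ 4 → ∀ h : g⁻¹ * u ^ m * g ∈ S, φ ⟨_, h⟩ = c ^ m := by
    intro m g hd hmem
    have hm : m = 1 ∨ m = 2 ∨ m = 4 := by
      have hle : m ≤ 4 := Nat.le_of_dvd (by norm_num) hd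
      interval_cases m
      · exact absurd (Nat.eq_zero_of_zero_dvd hd) (by norm_num)
      · left; rfl
      · right; left; rfl
      · exact absurd hd (by decide)
      · right; right; rfl
    rcases hm with rfl | rfl | rfl
    · have hmem' : g⁻¹ * u * g ∈ S := by simpa using hmem
      rw [pow_one c, ← h1 _ hmem']
      congr 1
      apply Subtype.ext
      show g⁻¹ * u ^ 1 * g = g⁻¹ * u * g
      rw [pow_one]
    · rw [hcc]
      exact h2 _ hmem
    · have hc4 : c ^ 4 = 1 := by rw [show 4 = 2 * 2 from rfl, pow_mul, hcc, one_pow]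
      rw [hc4]
      have : (⟨g⁻¹ * u ^ 4 * g, hmem⟩ : S) = 1 := by
        apply Subtype.ext
        show g⁻¹ * u ^ 4 * g = 1
        rw [hu4, mul_one, inv_mul_cancel]
      rw [this, map_one]
  have key : ∀ q : Quotient (orbitRel (zpowers u) (G ⧸ S)),
      φ ⟨q.out.out⁻¹ * u ^ Function.minimalPeriod (u • ·) q.out * q.out.out,
        QuotientGroup.out_conj_pow_minimalPeriod_mem S u q.out⟩ =
      c ^ Function.minimalPeriod (u • ·) q.out := by
    intro q
    apply aux
    apply Function.IsPeriodicPt.minimalPeriod_dvd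
    show (u • ·)^[4] q.out = q.out
    rw [smul_iterate]
    show u ^ 4 • q.out = q.out
    rw [hu4, one_smul]
  rw [Finset.prod_congr rfl (fun q _ => key q), Finset.prod_pow_eq_pow_sum]
  have hidx := index_eq_sum_minimalPeriod S u
  rw [← hidx]
  obtain ⟨k, hk⟩ := hodd
  rw [hk, pow_add, pow_mul, hcc, one_pow, one_mul, pow_one]

/-- A homomorphism from a finite simple non-abelian group to an abelian group is trivial. -/
theorem hom_eq_one [IsSimpleGroup G] (hG : ¬ IsMulCommutative G) {A : Type*} [CommGroup A] (f : G →* A)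
    (g : G) : f g = 1 := by
  rcases (inferInstance : f.ker.Normal).eq_bot_or_eq_top with h | h
  · exfalso
    apply hG
    have hinj := (MonoidHom.ker_eq_bot_iff f).1 h
    exact ⟨⟨fun a b => hinj (by rw [map_mul, map_mul, mul_comm])⟩⟩
  · have : g ∈ f.ker := by rw [h]; trivial
    exact this

theorem false_of_transfer [Finite G] [IsSimpleGroup G] (hG : ¬ IsMulCommutative G) {S : Subgroup G}
    {A : Type*} [CommGroup A] (φ : S →* A)
    (hodd : Odd S.index) {u : G} (hu4 : u ^ 4 = 1) {c : A} (hcc : c ^ 2 = 1) (hc1 : c ≠ 1)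
    (h1 : ∀ (g : G) (h : g⁻¹ * u * g ∈ S), φ ⟨_, h⟩ = c)
    (h2 : ∀ (g : G) (h : g⁻¹ * u ^ 2 * g ∈ S), φ ⟨_, h⟩ = 1) : False := by
  apply hc1
  rw [← transfer_eq φ hodd hu4 hcc h1 h2]
  exact hom_eq_one hG _ _

/-- The version with a normal subgroup `N` of `S`, `S / N` abelian. -/
theorem false_of_transfer_quotient [Finite G] [IsSimpleGroup G] (hG : ¬ IsMulCommutative G)
    {S : Subgroup G} (N : Subgroup S) [N.Normal] (hab : ∀ x y : S, x⁻¹ * y⁻¹ * x * y ∈ N)
    (hodd : Odd S.index) {u : G} (hu4 : u ^ 4 = 1) (hu : ∀ h : u ∈ S, (⟨u, h⟩ : S) ∉ N) (huS : u ∈ S)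
    (h1 : ∀ (g : G) (h : g⁻¹ * u * g ∈ S), (⟨u, huS⟩ : S)⁻¹ * ⟨_, h⟩ ∈ N)
    (h2 : ∀ (g : G) (h : g⁻¹ * u ^ 2 * g ∈ S), (⟨_, h⟩ : S) ∈ N) : False := by
  let _ : CommGroup (S ⧸ N) :=
    { (inferInstance : Group (S ⧸ N)) with
      mul_comm := by
        intro a b
        induction a using QuotientGroup.induction_on with
        | H x =>
          induction b using QuotientGroup.induction_on with
          | H y =>
            show ((x * y : S) : S ⧸ N) = ((y * x : S) : S ⧸ N)
            rw [eq_comm, QuotientGroup.eq]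
            have := hab x y
            have e : (y * x)⁻¹ * (x * y) = x⁻¹ * y⁻¹ * x * y := by group
            rw [e]; exact this }
  refine false_of_transfer (A := S ⧸ N) hG (QuotientGroup.mk' N) hodd hu4 (c := QuotientGroup.mk' N ⟨u, huS⟩)
    ?_ ?_ ?_ ?_
  · rw [← map_pow]
    show ((⟨u, huS⟩ ^ 2 : S) : S ⧸ N) = 1
    rw [QuotientGroup.eq_one_iff]
    have h3 : (1 : G)⁻¹ * u ^ 2 * 1 ∈ S := by
      simp only [inv_one, one_mul, mul_one]
      exact S.pow_mem huS 2
    have := h2 1 h3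
    have e : (⟨u, huS⟩ ^ 2 : S) = ⟨_, h3⟩ := by
      apply Subtype.ext
      show u ^ 2 = (1 : G)⁻¹ * u ^ 2 * 1
      group
    rw [e]; exact this
  · intro h
    have h' : ((⟨u, huS⟩ : S) : S ⧸ N) = 1 := h
    rw [QuotientGroup.eq_one_iff] at h'
    exact hu huS h'
  · intro g h
    show ((⟨_, h⟩ : S) : S ⧸ N) = ((⟨u, huS⟩ : S) : S ⧸ N)
    rw [eq_comm, QuotientGroup.eq]
    exact h1 g h
  · intro g h
    show ((⟨_, h⟩ : S) : S ⧸ N) = 1
    rw [QuotientGroup.eq_one_iff]
    exact h2 g h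

end Cfsg.Agent.ClassificationK.SymplTransfer
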