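import Mathlib
set_option linter.all false

set_option autoImplicit false

/-!
# Duality in groups with `Q' = Z(Q)` of prime order

In a finite group `Q` with `Q' = Z(Q)` of prime order, every homomorphism from `Q` to its centre
is commutation with some element of `Q`. This is the nondegeneracy of the commutator form of an
extraspecial group.
-/

namespace Cfsg.Agent.ClassificationK.Extraspecial

open Subgroup
open scoped commutatorElement IsMulCommutative

section

variable {Q : Type*} [Group Q]

/-- Commutation with `x`, as a homomorphism to the centre, in a group of class at most two. -/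
def commHom (h : commutator Q ≤ center Q) (x : Q) : Q →* center Q where
  toFun q := ⟨⁅x, q⁆, h (commutator_mem_commutator (mem_top x) (mem_top q))⟩
  map_one' := by
    apply Subtype.ext
    simp
  map_mul' q r := by
    apply Subtype.ext
    have hc : ⁅x, r⁆ ∈ center Q := h (commutator_mem_commutator (mem_top x) (mem_top r))
    have h1 : q * ⁅x, r⁆ = ⁅x, r⁆ * q := (mem_center_iff.mp hc q)
    show ⁅x, q * r⁆ = ⁅x, q⁆ * ⁅x, r⁆
    calc ⁅x, q * r⁆ = ⁅x, q⁆ * (q * ⁅x, r⁆) * q⁻¹ := by
          simp only [commutatorElement_def]; group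
      _ = ⁅x, q⁆ * (⁅x, r⁆ * q) * q⁻¹ := by rw [h1]
      _ = ⁅x, q⁆ * ⁅x, r⁆ := by group

theorem commHom_apply (h : commutator Q ≤ center Q) (x q : Q) :
    (commHom h x q : Q) = ⁅x, q⁆ := rfl

/-- The commutator pairing as a homomorphism to the group of homomorphisms to the centre. -/
def commHomHom (h : commutator Q ≤ center Q) : Q →* (Q →* center Q) where
  toFun x := commHom h x
  map_one' := by
    ext q
    simp [commHom_apply]
  map_mul' x y := by
    ext q
    have hc : ⁅y, q⁆ ∈ center Q := h (commutator_mem_commutator (mem_top y) (mem_top q))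
    have h1 : x * ⁅y, q⁆ = ⁅y, q⁆ * x := (mem_center_iff.mp hc x)
    have hc2 : ⁅x, q⁆ ∈ center Q := h (commutator_mem_commutator (mem_top x) (mem_top q))
    have h2 : ⁅y, q⁆ * ⁅x, q⁆ = ⁅x, q⁆ * ⁅y, q⁆ := (mem_center_iff.mp hc2 _)
    show ⁅x * y, q⁆ = ⁅x, q⁆ * ⁅y, q⁆
    calc ⁅x * y, q⁆ = (x * ⁅y, q⁆) * x⁻¹ * ⁅x, q⁆ := by
          simp only [commutatorElement_def]; group
      _ = (⁅y, q⁆ * x) * x⁻¹ * ⁅x, q⁆ := by rw [h1]
      _ = ⁅y, q⁆ * ⁅x, q⁆ := by group
      _ = ⁅x, q⁆ * ⁅y, q⁆ := h2

theorem ker_commHomHom (h : commutator Q ≤ center Q) : (commHomHom h).ker = center Q := by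
  ext x
  rw [MonoidHom.mem_ker, mem_center_iff]
  constructor
  · intro hx q
    have h1 : commHom h x q = 1 := by
      have : commHomHom h x q = (1 : Q →* center Q) q := by rw [hx]
      exact this
    have h2 : ⁅x, q⁆ = 1 := congrArg Subtype.val h1
    exact (commutatorElement_eq_one_iff_mul_comm.mp h2).symm
  · intro hx
    ext q
    show ⁅x, q⁆ = 1
    exact commutatorElement_eq_one_iff_mul_comm.mpr (hx q).symm

end

/-- In a finite group `Q` with `Q' = Z(Q)` of prime order, every homomorphism from `Q` to `Z(Q)`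
is commutation with an element of `Q`. -/
theorem exists_commutator_eq {Q : Type*} [Group Q] [Finite Q] (h : commutator Q = center Q)
    {p : ℕ} (hp : p.Prime) (hc : Nat.card (center Q) = p) (f : Q →* center Q) :
    ∃ x : Q, ∀ q : Q, ⁅x, q⁆ = (f q : Q) := by
  classical
  have hle : commutator Q ≤ center Q := h.le
  haveI : Fact p.Prime := ⟨hp⟩
  -- a faithful character of the centre
  obtain ⟨z, hz⟩ : ∃ z : center Q, z ≠ 1 := by
    haveI : Nontrivial (center Q) := by
      rw [← Finite.one_lt_card_iff_nontrivial, hc]; exact hp.one_lt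
    exact exists_ne 1
  obtain ⟨χ, hχ⟩ := CommGroup.exists_apply_ne_one_of_hasEnoughRootsOfUnity (center Q) ℂ hz
  have hχinj : Function.Injective χ := by
    rw [← MonoidHom.ker_eq_bot_iff]
    rcases Subgroup.eq_bot_or_eq_top_of_prime_card χ.ker (hp := by rw [hc]; exact ⟨hp⟩) with
      h1 | h1
    · exact h1
    · exfalso
      apply hχ
      have : z ∈ χ.ker := by rw [h1]; exact mem_top z
      exact MonoidHom.mem_ker.mp this
  -- the group of homomorphisms to the centre embeds in the group of complex characters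
  let e : (Q →* ℂˣ) ≃ (Abelianization Q →* ℂˣ) := Abelianization.lift
  haveI : Finite (Abelianization Q →* ℂˣ) :=
    Finite.of_equiv _
      (CommGroup.monoidHom_mulEquiv_of_hasEnoughRootsOfUnity (Abelianization Q) ℂ).some.toEquiv.symm
  haveI : Finite (Q →* ℂˣ) := Finite.of_equiv _ e.symm
  have hcard1 : Nat.card (Q →* ℂˣ) = (center Q).index := by
    rw [Nat.card_congr e, CommGroup.card_monoidHom_of_hasEnoughRootsOfUnity, ← h]
    rfl
  have hinj : Function.Injective (fun g : Q →* center Q => χ.comp g) := by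
    intro g g' hgg'
    ext q
    have : χ (g q) = χ (g' q) := by
      have := DFunLike.congr_fun hgg' q
      simpa using this
    exact congrArg Subtype.val (hχinj this)
  haveI : Finite (Q →* center Q) := Finite.of_injective _ hinj
  have hcard2 : Nat.card (Q →* center Q) ≤ (center Q).index := by
    rw [← hcard1]
    exact Nat.card_le_card_of_injective _ hinj
  have hrange : (commHomHom hle).range = ⊤ := by
    apply Subgroup.eq_top_of_le_card
    rw [← Subgroup.index_ker, ker_commHomHom]
    exact hcard2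
  have hf : f ∈ (commHomHom hle).range := by rw [hrange]; exact mem_top f
  obtain ⟨x, hx⟩ := hf
  refine ⟨x, fun q => ?_⟩
  rw [← hx]
  rfl

/-- An automorphism of such a group that acts trivially modulo the centre is inner. -/
theorem exists_inner {Q : Type*} [Group Q] [Finite Q] (h : commutator Q = center Q)
    {p : ℕ} (hp : p.Prime) (hc : Nat.card (center Q) = p) (σ : Q →* Q)
    (hσ : ∀ q, σ q * q⁻¹ ∈ center Q) :
    ∃ x : Q, ∀ q : Q, σ q = x * q * x⁻¹ := by
  have hcomm : ∀ q r : Q, (σ q * q⁻¹) * r = r * (σ q * q⁻¹) := fun q r =>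
    (mem_center_iff.mp (hσ q) r).symm
  let f : Q →* center Q :=
    { toFun := fun q => ⟨σ q * q⁻¹, hσ q⟩
      map_one' := by apply Subtype.ext; simp
      map_mul' := fun q r => by
        apply Subtype.ext
        show σ (q * r) * (q * r)⁻¹ = (σ q * q⁻¹) * (σ r * r⁻¹)
        rw [map_mul, mul_inv_rev]
        calc σ q * σ r * (r⁻¹ * q⁻¹) = σ q * ((σ r * r⁻¹) * q⁻¹) := by group
          _ = σ q * (q⁻¹ * (σ r * r⁻¹)) := by rw [hcomm]
          _ = (σ q * q⁻¹) * (σ r * r⁻¹) := by group }
  obtain ⟨x, hx⟩ := exists_commutator_eq h hp hc f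
  refine ⟨x, fun q => ?_⟩
  have h1 : ⁅x, q⁆ = σ q * q⁻¹ := hx q
  calc σ q = (σ q * q⁻¹) * q := by group
    _ = ⁅x, q⁆ * q := by rw [h1]
    _ = x * q * x⁻¹ := by rw [commutatorElement_def]; group

end Cfsg.Agent.ClassificationK.Extraspecial
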