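import Mathlib
import Cfsg.Agent.ClassificationK.LargeSymplectic
import Cfsg.Agent.FastGrp
import Cfsg.Agent.Prune
set_option linter.all false
prune_inst 0x7f00000000000000000000000000000000000000000000000000000000000000000000000000000000000000000000000000000000000000000000000000000000000000000000000000000000000000003fffffffffffffffffffffffffffbeffbdffffffff
open scoped Cfsg.Agent.FastGrp

-- part: ClassificationK/SymplSetup
section
/-!
# `Q = E ∘ Z₄` as a symplectic space (S1758, helper577)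

`Symp Q z u` : elementwise description of a large subgroup `Q = E ∘ ⟨u⟩` of `C_G(z)`, `u² = z`, `E` extraspecial
(or `E = ⟨z⟩`; non-abelian case: field `nonab`), `Z(Q) = ⟨u⟩`, normalised by `C_G(z)`, containing its centralizer in
`C_G(z)` and every normal 2-subgroup of `C_G(z)`.  `h.V` is `Q / ⟨u⟩` as a vector space over `ZMod 2`,
`h.pr : Q → h.V` the projection, `h.b` the commutator form, `h.act` the action of `C_G(z)` by conjugation.

`Fam D Q u` : the conjugacy class `D = z^G`, with `Q a = F*(C(a))`, `u a` a generator of `Z(Q a)` for `a ∈ D`.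
-/

set_option autoImplicit false

namespace Cfsg.Agent.ClassificationK.SymplSetup

/-- `Q = E ∘ ⟨u⟩`, `u² = z`. -/
structure Symp {G : Type*} [Group G] (Q : Subgroup G) (z u : G) : Prop where
  u_mem : u ∈ Q
  u_sq : u * u = z
  z_ne : z ≠ 1
  z_sq : z * z = 1
  comm_u : ∀ x ∈ Q, x * u = u * x
  conj_mem : ∀ g, g * z = z * g → ∀ x ∈ Q, g * x * g⁻¹ ∈ Q
  sq : ∀ x ∈ Q, x * x = 1 ∨ x * x = z
  comm : ∀ x ∈ Q, ∀ y ∈ Q, x * y = y * x ∨ x * y = y * x * z
  self : ∀ g, g * z = z * g → (∀ x ∈ Q, g * x = x * g) → g = 1 ∨ g = z ∨ g = u ∨ g = u * z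
  core : ∀ N : Subgroup G, (∀ x ∈ N, x * z = z * x) →
    (∀ g, g * z = z * g → ∀ x ∈ N, g * x * g⁻¹ ∈ N) → IsPGroup 2 N → N ≤ Q
  nonab : ∃ x ∈ Q, ∃ y ∈ Q, x * y ≠ y * x

namespace Symp

variable {G : Type*} [Group G] {Q : Subgroup G} {z u : G}

theorem z_inv (h : Symp Q z u) : z⁻¹ = z := inv_eq_of_mul_eq_one_left h.z_sq

theorem z_mem (h : Symp Q z u) : z ∈ Q := h.u_sq ▸ mul_mem h.u_mem h.u_mem

theorem comm_z (h : Symp Q z u) : ∀ x ∈ Q, x * z = z * x := by
  intro x hx
  rw [← h.u_sq, ← mul_assoc, h.comm_u x hx, mul_assoc, h.comm_u x hx, mul_assoc]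

theorem commz (h : Symp Q z u) {g : G} (hg : g ∈ Q) : Commute g z := h.comm_z g hg

theorem commu (h : Symp Q z u) {g : G} (hg : g ∈ Q) : Commute g u := h.comm_u g hg

theorem uz (h : Symp Q z u) : u * z = z * u := h.comm_z u h.u_mem

theorem u_ne (h : Symp Q z u) : u ≠ 1 := by
  intro h1
  apply h.z_ne
  rw [← h.u_sq, h1, one_mul]

theorem u_ne_z (h : Symp Q z u) : u ≠ z := by
  intro h1
  have h2 := h.u_sq
  rw [h1, h.z_sq] at h2
  exact h.z_ne h2.symm

theorem u_inv (h : Symp Q z u) : u⁻¹ = u * z := by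
  rw [inv_eq_iff_mul_eq_one, ← mul_assoc, h.u_sq, h.z_sq]

theorem orderOf_z (h : Symp Q z u) : orderOf z = 2 :=
  orderOf_eq_prime (by rw [pow_two]; exact h.z_sq) h.z_ne

theorem cent (h : Symp Q z u) : ∀ x ∈ Q, (∀ y ∈ Q, x * y = y * x) → x = 1 ∨ x = z ∨ x = u ∨ x = u * z :=
  fun x hx hc => h.self x (h.comm_z x hx) hc

/-- Any element of `C(z)` centralises or inverts `u`. -/
theorem conj_u (h : Symp Q z u) {g : G} (hg : g * z = z * g) : g * u * g⁻¹ = u ∨ g * u * g⁻¹ = u * z := by
  have h1 : g * u * g⁻¹ ∈ Q := h.conj_mem g hg u h.u_mem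
  have hg' : g⁻¹ * z = z * g⁻¹ := by
    rw [inv_mul_eq_iff_eq_mul, ← mul_assoc, hg, mul_assoc, mul_inv_cancel, mul_one]
  have h2 : ∀ y ∈ Q, (g * u * g⁻¹) * y = y * (g * u * g⁻¹) := by
    intro y hy
    have h3 : g⁻¹ * y * g ∈ Q := by
      have := h.conj_mem g⁻¹ hg' y hy
      rwa [inv_inv] at this
    have h4 := h.comm_u _ h3
    calc (g * u * g⁻¹) * y = g * (u * (g⁻¹ * y * g)) * g⁻¹ := by group
      _ = g * ((g⁻¹ * y * g) * u) * g⁻¹ := by rw [h4]
      _ = y * (g * u * g⁻¹) := by group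
  have h5 : (g * u * g⁻¹) * (g * u * g⁻¹) = z := by
    calc (g * u * g⁻¹) * (g * u * g⁻¹) = g * (u * u) * g⁻¹ := by group
      _ = z := by rw [h.u_sq, hg]; group
  rcases h.cent _ h1 h2 with h3 | h3 | h3 | h3
  · rw [h3, one_mul] at h5; exact absurd h5.symm h.z_ne
  · rw [h3, h.z_sq] at h5; exact absurd h5.symm h.z_ne
  · exact Or.inl h3
  · exact Or.inr h3

theorem mem_center (h : Symp Q z u) {x : Q} :
    x ∈ Subgroup.center Q ↔ (x : G) = 1 ∨ (x : G) = z ∨ (x : G) = u ∨ (x : G) = u * z := by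
  constructor
  · intro hx
    refine h.cent x x.2 fun y hy => ?_
    have := Subgroup.mem_center_iff.1 hx ⟨y, hy⟩
    exact (congrArg Subtype.val this).symm
  · intro hx
    rw [Subgroup.mem_center_iff]
    intro y
    apply Subtype.ext
    show (y : G) * x = x * y
    rcases hx with hx | hx | hx | hx <;> rw [hx]
    · rw [mul_one, one_mul]
    · exact h.comm_z y y.2
    · exact h.comm_u y y.2
    · rw [← mul_assoc, h.comm_u y y.2, mul_assoc, h.comm_z y y.2, mul_assoc]

/-- The space `Q / ⟨u⟩`. -/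
def V (_h : Symp Q z u) : Type _ := Additive (Q ⧸ Subgroup.center Q)

theorem sq_mem (h : Symp Q z u) (x : Q) : x * x ∈ Subgroup.center Q := by
  rw [h.mem_center]
  rcases h.sq x x.2 with h1 | h1
  · exact Or.inl h1
  · exact Or.inr (Or.inl h1)

theorem comm_mem (h : Symp Q z u) (x y : Q) : (x * y)⁻¹ * (y * x) ∈ Subgroup.center Q := by
  rw [h.mem_center]
  rcases h.comm x x.2 y y.2 with hc | hc
  · left
    show ((x : G) * y)⁻¹ * (y * x) = 1
    rw [hc]; group
  · right; left
    show ((x : G) * y)⁻¹ * (y * x) = z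
    rw [hc, mul_inv_rev, h.z_inv]
    group

/-- the projection `Q → Q / ⟨u⟩` -/
def pr (h : Symp Q z u) (x : Q) : h.V := Additive.ofMul (QuotientGroup.mk x : Q ⧸ Subgroup.center Q)

theorem pr_surjective (h : Symp Q z u) : Function.Surjective h.pr := by
  intro v
  obtain ⟨x, hx⟩ := QuotientGroup.mk_surjective (Additive.toMul (show Additive (Q ⧸ Subgroup.center Q) from v))
  exact ⟨x, by rw [pr, hx]; rfl⟩

noncomputable instance instAddGroup (h : Symp Q z u) : AddGroup h.V :=
  inferInstanceAs (AddGroup (Additive (Q ⧸ Subgroup.center Q)))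

noncomputable instance instAddCommGroup (h : Symp Q z u) : AddCommGroup h.V :=
  { instAddGroup h with
    add_comm := by
      intro a b
      obtain ⟨x, rfl⟩ := h.pr_surjective a
      obtain ⟨y, rfl⟩ := h.pr_surjective b
      exact congrArg Additive.ofMul (QuotientGroup.eq.2 (h.comm_mem x y)) }

theorem pr_mul (h : Symp Q z u) (x y : Q) : h.pr (x * y) = h.pr x + h.pr y := rfl

theorem pr_one (h : Symp Q z u) : h.pr 1 = 0 := rfl

theorem pr_inv (h : Symp Q z u) (x : Q) : h.pr x⁻¹ = - h.pr x := rfl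

theorem pr_eq_pr (h : Symp Q z u) {x y : Q} : h.pr x = h.pr y ↔
    (x : G) = y ∨ (x : G) = y * z ∨ (x : G) = y * u ∨ (x : G) = y * (u * z) := by
  have h1 : h.pr x = h.pr y ↔ y⁻¹ * x ∈ Subgroup.center Q := by
    constructor
    · intro hxy
      have : (QuotientGroup.mk y : Q ⧸ Subgroup.center Q) = QuotientGroup.mk x :=
        (Additive.ofMul.injective hxy).symm
      exact QuotientGroup.eq.1 this
    · intro hxy
      exact (congrArg Additive.ofMul (QuotientGroup.eq.2 hxy)).symm
  rw [h1, h.mem_center]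
  have e : ∀ g : G, (((y⁻¹ * x : Q)) : G) = g ↔ (x : G) = y * g := by
    intro g
    show (y : G)⁻¹ * x = g ↔ _
    rw [inv_mul_eq_iff_eq_mul]
  rw [e, e, e, e, mul_one]

theorem pr_eq_zero (h : Symp Q z u) {x : Q} : h.pr x = 0 ↔
    (x : G) = 1 ∨ (x : G) = z ∨ (x : G) = u ∨ (x : G) = u * z := by
  rw [← h.pr_one, h.pr_eq_pr]; simp

theorem add_self (h : Symp Q z u) (v : h.V) : v + v = 0 := by
  obtain ⟨x, rfl⟩ := h.pr_surjective v
  rw [← h.pr_mul, h.pr_eq_zero]
  rcases h.sq x x.2 with h1 | h1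
  · exact Or.inl h1
  · exact Or.inr (Or.inl h1)

noncomputable instance instModule (h : Symp Q z u) : Module (ZMod 2) h.V :=
  AddCommGroup.zmodModule (n := 2) (by intro x; rw [two_nsmul]; exact h.add_self x)

theorem neg_eq (h : Symp Q z u) (v : h.V) : -v = v := by
  rw [neg_eq_iff_add_eq_zero]; exact h.add_self v

/-- Every vector is represented by an involution (or `1`). -/
theorem exists_pr_eq (h : Symp Q z u) (v : h.V) : ∃ x : Q, (x : G) * x = 1 ∧ h.pr x = v := by
  obtain ⟨x, rfl⟩ := h.pr_surjective v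
  rcases h.sq x x.2 with h1 | h1
  · exact ⟨x, h1, rfl⟩
  · refine ⟨x * ⟨u, h.u_mem⟩, ?_, ?_⟩
    · show (x : G) * u * (x * u) = 1
      calc (x : G) * u * (x * u) = x * (u * x) * u := by group
        _ = (x * x) * (u * u) := by rw [← h.comm_u x x.2]; group
        _ = 1 := by rw [h1, h.u_sq, h.z_sq]
    · rw [h.pr_eq_pr]
      right; right; left
      rfl

/-- Two involutions (or `1`) with the same image differ by `z`. -/
theorem eq_or_of_pr_eq (h : Symp Q z u) {x y : Q} (hx : (x : G) * x = 1) (hy : (y : G) * y = 1)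
    (hxy : h.pr x = h.pr y) : (x : G) = y ∨ (x : G) = y * z := by
  have hyu := h.comm_u y y.2
  have hyz := h.comm_z y y.2
  rcases h.pr_eq_pr.1 hxy with h1 | h1 | h1 | h1
  · exact Or.inl h1
  · exact Or.inr h1
  · exfalso
    apply h.z_ne
    rw [h1] at hx
    calc z = (y : G) * y * (u * u) := by rw [hy, h.u_sq, one_mul]
      _ = y * (y * u) * u := by group
      _ = y * (u * y) * u := by rw [hyu]
      _ = y * u * (y * u) := by group
      _ = 1 := hx
  · exfalso
    apply h.z_ne
    rw [h1] at hx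
    calc z = (y : G) * y * (u * u) * (z * z) := by rw [hy, h.u_sq, h.z_sq, one_mul, mul_one]
      _ = y * (y * u) * (u * z) * z := by group
      _ = y * (u * y) * (z * u) * z := by rw [hyu, h.uz]
      _ = y * u * (y * z) * (u * z) := by group
      _ = y * (u * z) * (y * (u * z)) := by rw [hyz]; group
      _ = 1 := hx

/-! ### counting -/

instance [Finite Q] (h : Symp Q z u) : Finite h.V := Finite.of_surjective h.pr h.pr_surjective

theorem card_center (h : Symp Q z u) : Nat.card (Subgroup.center Q) = 4 := by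
  have hu4 : orderOf u = 4 := by
    have : orderOf u = 2 ^ 2 := by
      refine orderOf_eq_prime_pow (p := 2) (n := 1) ?_ ?_
      · rw [pow_one, pow_two, h.u_sq]; exact h.z_ne
      · rw [show (2 : ℕ) ^ (1 + 1) = 2 * 2 from rfl, pow_mul, pow_two u, h.u_sq, pow_two]; exact h.z_sq
    simpa using this
  have hc : (Subgroup.center Q).map Q.subtype = Subgroup.zpowers u := by
    ext x
    constructor
    · rintro ⟨y, hy, rfl⟩
      show (y : G) ∈ Subgroup.zpowers u
      rcases h.mem_center.1 hy with h1 | h1 | h1 | h1 <;> rw [h1]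
      · exact one_mem _
      · rw [← h.u_sq]; exact mul_mem (Subgroup.mem_zpowers u) (Subgroup.mem_zpowers u)
      · exact Subgroup.mem_zpowers u
      · rw [← h.u_sq]
        exact mul_mem (Subgroup.mem_zpowers u) (mul_mem (Subgroup.mem_zpowers u) (Subgroup.mem_zpowers u))
    · intro hx
      have hle : Subgroup.zpowers u ≤ (Subgroup.center Q).map Q.subtype := by
        rw [Subgroup.zpowers_le]
        exact ⟨⟨u, h.u_mem⟩, h.mem_center.2 (Or.inr (Or.inr (Or.inl rfl))), rfl⟩
      exact hle hx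
  have h1 : Nat.card ((Subgroup.center Q).map Q.subtype) = Nat.card (Subgroup.center Q) :=
    Subgroup.card_map_of_injective Q.subtype_injective
  rw [← h1, hc, Nat.card_zpowers, hu4]

theorem card_eq (h : Symp Q z u) : Nat.card Q = 4 * Nat.card h.V := by
  have h1 : Nat.card h.V = Nat.card (Q ⧸ Subgroup.center Q) := rfl
  rw [h1, ← h.card_center, mul_comm]
  exact Subgroup.card_eq_card_quotient_mul_card_subgroup (Subgroup.center Q)

/-! ### the commutator form -/

/-- the value in `ZMod 2` of a central element -/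
noncomputable def val (g : G) : ZMod 2 := by classical exact if g = 1 then 0 else 1

theorem val_one : val (1 : G) = 0 := by simp [val]

theorem val_of_ne {g : G} (hg : g ≠ 1) : val g = 1 := by simp [val, hg]

/-- commutator form, as a function -/
noncomputable def b0 (h : Symp Q z u) (v w : h.V) : ZMod 2 :=
  val (((Function.surjInv h.pr_surjective v : Q) : G) * (Function.surjInv h.pr_surjective w : Q) *
    (((Function.surjInv h.pr_surjective v : Q) : G)⁻¹ *
      ((Function.surjInv h.pr_surjective w : Q) : G)⁻¹))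

/-- commutation only depends on the images -/
theorem comm_congr (h : Symp Q z u) {x x' y y' : Q} (hx : h.pr x = h.pr x') (hy : h.pr y = h.pr y')
    (hc : (x : G) * y = y * x) : (x' : G) * y' = y' * x' := by
  have key : ∀ a a' b : Q, h.pr a = h.pr a' → (a : G) * b = b * a → (a' : G) * b = b * a' := by
    intro a a' b hab hc
    have hbu := h.comm_u b b.2
    have hbz := h.comm_z b b.2
    rcases h.pr_eq_pr.1 hab.symm with h1 | h1 | h1 | h1 <;> rw [h1]
    · exact hc
    · rw [mul_assoc, ← hbz, ← mul_assoc, hc, mul_assoc]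
    · rw [mul_assoc, ← hbu, ← mul_assoc, hc, mul_assoc]
    · rw [mul_assoc, mul_assoc u z, ← hbz, ← mul_assoc u, ← hbu, ← mul_assoc, ← mul_assoc, hc]
      group
  have h1 := key x x' y hx hc
  exact (key y y' x' hy h1.symm).symm

theorem b0_eq_zero (h : Symp Q z u) {x y : Q} :
    h.b0 (h.pr x) (h.pr y) = 0 ↔ (x : G) * y = y * x := by
  have h1 : h.pr (Function.surjInv h.pr_surjective (h.pr x)) = h.pr x :=
    Function.surjInv_eq h.pr_surjective (h.pr x)
  have h2 : h.pr (Function.surjInv h.pr_surjective (h.pr y)) = h.pr y :=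
    Function.surjInv_eq h.pr_surjective (h.pr y)
  set x' := Function.surjInv h.pr_surjective (h.pr x) with hx'
  set y' := Function.surjInv h.pr_surjective (h.pr y) with hy'
  have h3 : h.b0 (h.pr x) (h.pr y) = val ((x' : G) * y' * ((x' : G)⁻¹ * (y' : G)⁻¹)) := rfl
  rw [h3]
  constructor
  · intro he
    apply h.comm_congr h1 h2
    by_contra hne
    have : (x' : G) * y' * ((x' : G)⁻¹ * (y' : G)⁻¹) ≠ 1 := by
      intro h1
      apply hne
      rw [← mul_inv_rev, mul_inv_eq_one] at h1
      exact h1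
    rw [val_of_ne this] at he
    exact one_ne_zero he
  · intro he
    have := h.comm_congr h1.symm h2.symm he
    rw [this, ← mul_inv_rev, mul_inv_cancel, val_one]

theorem b0_eq_one (h : Symp Q z u) {x y : Q} :
    h.b0 (h.pr x) (h.pr y) = 1 ↔ (x : G) * y = y * x * z := by
  have h01 : ∀ a : ZMod 2, a = 1 ↔ a ≠ 0 := by decide
  rw [h01, Ne, h.b0_eq_zero]
  constructor
  · intro hne
    exact (h.comm x x.2 y y.2).resolve_left hne
  · intro he hne
    rw [hne] at he
    exact h.z_ne (mul_eq_left.1 he.symm)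

theorem b0_comm (h : Symp Q z u) (v w : h.V) : h.b0 v w = h.b0 w v := by
  obtain ⟨x, rfl⟩ := h.pr_surjective v
  obtain ⟨y, rfl⟩ := h.pr_surjective w
  by_cases hc : (x : G) * y = y * x
  · rw [h.b0_eq_zero.2 hc, h.b0_eq_zero.2 hc.symm]
  · have h1 : h.b0 (h.pr x) (h.pr y) ≠ 0 := fun he => hc (h.b0_eq_zero.1 he)
    have h2 : h.b0 (h.pr y) (h.pr x) ≠ 0 := fun he => hc (h.b0_eq_zero.1 he).symm
    have h01 : ∀ a b : ZMod 2, a ≠ 0 → b ≠ 0 → a = b := by decide
    exact h01 _ _ h1 h2

theorem b0_self (h : Symp Q z u) (v : h.V) : h.b0 v v = 0 := by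
  obtain ⟨x, rfl⟩ := h.pr_surjective v
  rw [h.b0_eq_zero]

theorem b0_add_left (h : Symp Q z u) (v v' w : h.V) : h.b0 (v + v') w = h.b0 v w + h.b0 v' w := by
  obtain ⟨x, rfl⟩ := h.pr_surjective v
  obtain ⟨x', rfl⟩ := h.pr_surjective v'
  obtain ⟨y, rfl⟩ := h.pr_surjective w
  rw [← h.pr_mul]
  have hx := h.commz x.2
  have hx' := h.commz x'.2
  have hy := h.commz y.2
  rcases h.comm x x.2 y y.2 with h1 | h1 <;> rcases h.comm x' x'.2 y y.2 with h2 | h2
  · rw [h.b0_eq_zero.2 h1, h.b0_eq_zero.2 h2, h.b0_eq_zero.2]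
    · rfl
    · show (x : G) * x' * y = y * (x * x')
      rw [mul_assoc, h2, ← mul_assoc, h1, mul_assoc]
  · rw [h.b0_eq_zero.2 h1, h.b0_eq_one.2 h2, h.b0_eq_one.2]
    · rfl
    · show (x : G) * x' * y = y * (x * x') * z
      rw [mul_assoc, h2, ← mul_assoc, ← mul_assoc, h1, ← mul_assoc]
  · rw [h.b0_eq_one.2 h1, h.b0_eq_zero.2 h2, h.b0_eq_one.2]
    · rfl
    · show (x : G) * x' * y = y * (x * x') * z
      rw [mul_assoc, h2, ← mul_assoc, h1, mul_assoc (_ * _) z, ← hx'.eq]
      simp only [mul_assoc]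
  · rw [h.b0_eq_one.2 h1, h.b0_eq_one.2 h2, h.b0_eq_zero.2]
    · decide
    · show (x : G) * x' * y = y * (x * x')
      rw [mul_assoc, h2, ← mul_assoc, ← mul_assoc, h1, mul_assoc (_ * _) z (x' : G), ← hx'.eq,
        ← mul_assoc, mul_assoc _ z z, h.z_sq, mul_one, mul_assoc]

theorem b0_add_right (h : Symp Q z u) (v w w' : h.V) : h.b0 v (w + w') = h.b0 v w + h.b0 v w' := by
  rw [h.b0_comm v, h.b0_add_left, h.b0_comm w, h.b0_comm w']

/-- commutator form as a bilinear form -/
noncomputable def b (h : Symp Q z u) : LinearMap.BilinForm (ZMod 2) h.V :=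
  (AddMonoidHom.toZModLinearMap 2
    { toFun := fun v => AddMonoidHom.toZModLinearMap 2
        { toFun := fun w => h.b0 v w
          map_zero' := by
            have := h.b0_add_right v 0 0
            simpa using this
          map_add' := fun w w' => h.b0_add_right v w w' }
      map_zero' := by
        ext w
        show h.b0 0 w = 0
        have := h.b0_add_left 0 0 w
        simpa using this
      map_add' := fun v v' => by
        ext w
        exact h.b0_add_left v v' w })

theorem b_pr (h : Symp Q z u) (x y : Q) : h.b (h.pr x) (h.pr y) = 0 ↔ (x : G) * y = y * x :=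
  h.b0_eq_zero

theorem b_pr_one (h : Symp Q z u) (x y : Q) :
    h.b (h.pr x) (h.pr y) = 1 ↔ (x : G) * y = y * x * z :=
  h.b0_eq_one

theorem b_self (h : Symp Q z u) (v : h.V) : h.b v v = 0 := h.b0_self v

theorem b_comm (h : Symp Q z u) (v w : h.V) : h.b v w = h.b w v := h.b0_comm v w

theorem b_nondeg (h : Symp Q z u) {v : h.V} (hv : ∀ w, h.b v w = 0) : v = 0 := by
  obtain ⟨x, rfl⟩ := h.pr_surjective v
  rw [h.pr_eq_zero]
  refine h.cent x x.2 fun y hy => ?_
  exact (h.b_pr x ⟨y, hy⟩).1 (hv _)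

/-! ### the action of `C_G(z)` -/

theorem conj_mem_cent (h : Symp Q z u) (g : Subgroup.centralizer ({z} : Set G)) (x : Q) :
    (g : G) * x * (g : G)⁻¹ ∈ Q :=
  h.conj_mem g (Subgroup.mem_centralizer_singleton_iff.1 g.2) x x.2

/-- conjugation `x ↦ g x g⁻¹` on `Q` -/
def conjQ (h : Symp Q z u) (g : Subgroup.centralizer ({z} : Set G)) (x : Q) : Q :=
  ⟨(g : G) * x * (g : G)⁻¹, h.conj_mem_cent g x⟩

theorem conjQ_coe (h : Symp Q z u) (g : Subgroup.centralizer ({z} : Set G)) (x : Q) :
    ((h.conjQ g x : Q) : G) = (g : G) * x * (g : G)⁻¹ := rfl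

theorem conjQ_mul (h : Symp Q z u) (g : Subgroup.centralizer ({z} : Set G)) (x y : Q) :
    h.conjQ g (x * y) = h.conjQ g x * h.conjQ g y := by
  apply Subtype.ext
  show (g : G) * (x * y) * (g : G)⁻¹ = (g : G) * x * (g : G)⁻¹ * (g * y * (g : G)⁻¹)
  group

theorem pr_conjQ_congr (h : Symp Q z u) (g : Subgroup.centralizer ({z} : Set G)) {x y : Q}
    (hxy : h.pr x = h.pr y) : h.pr (h.conjQ g x) = h.pr (h.conjQ g y) := by
  have hg : (g : G) * z = z * g := Subgroup.mem_centralizer_singleton_iff.1 g.2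
  have h1 : h.pr (y⁻¹ * x) = 0 := by rw [h.pr_mul, h.pr_inv, hxy, neg_add_cancel]
  have h2 : h.pr (h.conjQ g (y⁻¹ * x)) = 0 := by
    have e : ∀ c : G, ((y⁻¹ * x : Q) : G) = c → ((h.conjQ g (y⁻¹ * x) : Q) : G) = g * c * (g : G)⁻¹ := by
      intro c hc; rw [conjQ_coe, hc]
    have hz : (g : G) * z * (g : G)⁻¹ = z := by rw [hg]; group
    rw [h.pr_eq_zero] at h1 ⊢
    rcases h1 with h1 | h1 | h1 | h1 <;> rw [e _ h1]
    · left; group
    · right; left; exact hz
    · rcases h.conj_u hg with h3 | h3 <;> rw [h3]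
      · right; right; left; rfl
      · right; right; right; rfl
    · have e2 : (g : G) * (u * z) * (g : G)⁻¹ = (g * u * (g : G)⁻¹) * (g * z * (g : G)⁻¹) := by group
      rw [e2, hz]
      rcases h.conj_u hg with h3 | h3 <;> rw [h3]
      · right; right; right; rfl
      · right; right; left; rw [mul_assoc, h.z_sq, mul_one]
  rw [h.conjQ_mul, h.pr_mul] at h2
  have h3 : h.conjQ g y⁻¹ = (h.conjQ g y)⁻¹ := by
    apply Subtype.ext
    show (g : G) * (y : G)⁻¹ * (g : G)⁻¹ = ((g : G) * y * (g : G)⁻¹)⁻¹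
    group
  rw [h3, h.pr_inv, neg_add_eq_zero] at h2
  exact h2.symm

/-- the action of an element on `V`, as a function -/
noncomputable def act0 (h : Symp Q z u) (g : Subgroup.centralizer ({z} : Set G)) (v : h.V) : h.V :=
  h.pr (h.conjQ g (Function.surjInv h.pr_surjective v))

theorem act0_pr (h : Symp Q z u) (g : Subgroup.centralizer ({z} : Set G)) (x : Q) :
    h.act0 g (h.pr x) = h.pr (h.conjQ g x) :=
  h.pr_conjQ_congr g (Function.surjInv_eq h.pr_surjective _)

theorem act0_add (h : Symp Q z u) (g : Subgroup.centralizer ({z} : Set G)) (v w : h.V) :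
    h.act0 g (v + w) = h.act0 g v + h.act0 g w := by
  obtain ⟨x, rfl⟩ := h.pr_surjective v
  obtain ⟨y, rfl⟩ := h.pr_surjective w
  rw [← h.pr_mul, h.act0_pr, h.act0_pr, h.act0_pr, h.conjQ_mul, h.pr_mul]

theorem act0_mul (h : Symp Q z u) (g g' : Subgroup.centralizer ({z} : Set G)) (v : h.V) :
    h.act0 (g * g') v = h.act0 g (h.act0 g' v) := by
  obtain ⟨x, rfl⟩ := h.pr_surjective v
  rw [h.act0_pr, h.act0_pr, h.act0_pr]
  congr 1
  apply Subtype.ext
  show ((g * g' : Subgroup.centralizer ({z} : Set G)) : G) * x *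
    ((g * g' : Subgroup.centralizer ({z} : Set G)) : G)⁻¹ = (g : G) * (g' * x * (g' : G)⁻¹) * (g : G)⁻¹
  rw [Subgroup.coe_mul]; group

theorem act0_one (h : Symp Q z u) (v : h.V) : h.act0 1 v = v := by
  obtain ⟨x, rfl⟩ := h.pr_surjective v
  rw [h.act0_pr]
  congr 1
  apply Subtype.ext
  show ((1 : Subgroup.centralizer ({z} : Set G)) : G) * x *
    ((1 : Subgroup.centralizer ({z} : Set G)) : G)⁻¹ = x
  simp

/-- the linear action of `C_G(z)` on `V` by conjugation `x ↦ g x g⁻¹` -/
noncomputable def act (h : Symp Q z u) :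
    Subgroup.centralizer ({z} : Set G) →* (h.V ≃ₗ[ZMod 2] h.V) where
  toFun g :=
    { (AddMonoidHom.toZModLinearMap 2
        ({ toFun := h.act0 g
           map_zero' := by
            have := h.act0_add g 0 0
            simpa using this
           map_add' := h.act0_add g } : h.V →+ h.V)) with
      invFun := h.act0 g⁻¹
      left_inv := fun v => by
        show h.act0 g⁻¹ (h.act0 g v) = v
        rw [← h.act0_mul, inv_mul_cancel, h.act0_one]
      right_inv := fun v => by
        show h.act0 g (h.act0 g⁻¹ v) = v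
        rw [← h.act0_mul, mul_inv_cancel, h.act0_one] }
  map_one' := by
    ext v
    exact h.act0_one v
  map_mul' g g' := by
    ext v
    exact h.act0_mul g g' v

theorem act_pr (h : Symp Q z u) (g : Subgroup.centralizer ({z} : Set G)) (x : Q) :
    h.act g (h.pr x) = h.pr (h.conjQ g x) := h.act0_pr g x

theorem act_pr_coe (h : Symp Q z u) (c : Subgroup.centralizer ({z} : Set G)) (x : Q) (y : Q)
    (hxy : (c : G) * x * (c : G)⁻¹ = y) : h.act c (h.pr x) = h.pr y := by
  rw [h.act_pr]
  congr 1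
  exact Subtype.ext hxy

theorem b_act (h : Symp Q z u) (g : Subgroup.centralizer ({z} : Set G)) (v w : h.V) :
    h.b (h.act g v) (h.act g w) = h.b v w := by
  obtain ⟨x, rfl⟩ := h.pr_surjective v
  obtain ⟨y, rfl⟩ := h.pr_surjective w
  rw [h.act_pr, h.act_pr]
  have hz : (g : G) * z * (g : G)⁻¹ = z := by
    rw [Subgroup.mem_centralizer_singleton_iff.1 g.2]; group
  rcases h.comm x x.2 y y.2 with h1 | h1
  · rw [(h.b_pr x y).2 h1, h.b_pr, conjQ_coe, conjQ_coe]
    calc (g : G) * x * (g : G)⁻¹ * (g * y * (g : G)⁻¹) = g * (x * y) * (g : G)⁻¹ := by group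
      _ = (g : G) * y * (g : G)⁻¹ * (g * x * (g : G)⁻¹) := by rw [h1]; group
  · rw [(h.b_pr_one x y).2 h1, h.b_pr_one, conjQ_coe, conjQ_coe]
    calc (g : G) * x * (g : G)⁻¹ * (g * y * (g : G)⁻¹) = g * (x * y) * (g : G)⁻¹ := by group
      _ = (g : G) * y * (g : G)⁻¹ * (g * x * (g : G)⁻¹) * (g * z * (g : G)⁻¹) := by rw [h1]; group
      _ = _ := by rw [hz]

/-- elements of `Q` act trivially -/
theorem act_mem (h : Symp Q z u) (g : Subgroup.centralizer ({z} : Set G)) (hg : (g : G) ∈ Q) :
    h.act g = 1 := by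
  ext v
  obtain ⟨x, rfl⟩ := h.pr_surjective v
  rw [h.act_pr]
  show h.pr (h.conjQ g x) = h.pr x
  rw [h.pr_eq_pr, conjQ_coe]
  rcases h.comm g hg x x.2 with h1 | h1
  · left; rw [h1]; group
  · right; left
    have hgz : z * (g : G)⁻¹ = (g : G)⁻¹ * z := (h.commz hg).inv_left.eq.symm
    rw [h1, mul_assoc _ z, hgz]; group

/-- duality: every linear functional on `V` is `b v ·` (finite case) -/
theorem exists_b_eq [Finite Q] (h : Symp Q z u) (f : h.V →ₗ[ZMod 2] ZMod 2) :
    ∃ v, ∀ w, h.b v w = f w := by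
  have : Module.Finite (ZMod 2) h.V := Module.Finite.of_finite
  have hinj : Function.Injective h.b := by
    rw [← LinearMap.ker_eq_bot, LinearMap.ker_eq_bot']
    intro v hv
    exact h.b_nondeg fun w => by rw [hv]; rfl
  have hsurj : Function.Surjective h.b :=
    (LinearMap.injective_iff_surjective_of_finrank_eq_finrank
      (Subspace.dual_finrank_eq (K := ZMod 2) (V := h.V)).symm).1 hinj
  obtain ⟨v, hv⟩ := hsurj f
  exact ⟨v, fun w => by rw [hv]⟩

/-- An element of `C(z)` centralising `u` and acting trivially on `V` lies in `Q`. -/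
theorem mem_of_act_comm [Finite Q] (h : Symp Q z u) (g : Subgroup.centralizer ({z} : Set G))
    (hg : h.act g = 1) (hu : (g : G) * u = u * g) : (g : G) ∈ Q := by
  classical
  have hgz : (g : G) * z = z * g := Subgroup.mem_centralizer_singleton_iff.1 g.2
  have hz : (g : G) * z * (g : G)⁻¹ = z := by rw [hgz]; group
  -- `[g, x] ∈ ⟨z⟩` for all `x`
  have h1 : ∀ x : Q, (g : G) * x * (g : G)⁻¹ = x ∨ (g : G) * x * (g : G)⁻¹ = x * z := by
    intro x
    have h2 : h.pr (h.conjQ g x) = h.pr x := by rw [← h.act_pr, hg]; rfl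
    have hsq : (g : G) * x * (g : G)⁻¹ * (g * x * (g : G)⁻¹) = x * x := by
      calc (g : G) * x * (g : G)⁻¹ * (g * x * (g : G)⁻¹) = g * (x * x) * (g : G)⁻¹ := by group
        _ = x * x := by
          rcases h.sq x x.2 with h3 | h3 <;> rw [h3]
          · group
          · exact hz
    have hxu := h.comm_u x x.2
    have hxz := h.comm_z x x.2
    rcases h.pr_eq_pr.1 h2 with h3 | h3 | h3 | h3
    · exact Or.inl h3
    · exact Or.inr h3
    · exfalso
      apply h.z_ne
      rw [conjQ_coe] at h3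
      rw [h3] at hsq
      have : (x : G) * u * (x * u) = x * x * z := by
        calc (x : G) * u * (x * u) = x * (u * x) * u := by group
          _ = x * x * (u * u) := by rw [← hxu]; group
          _ = _ := by rw [h.u_sq]
      rw [this] at hsq
      exact mul_eq_left.1 hsq
    · exfalso
      apply h.z_ne
      rw [conjQ_coe] at h3
      rw [h3] at hsq
      have : (x : G) * (u * z) * (x * (u * z)) = x * x * z := by
        calc (x : G) * (u * z) * (x * (u * z)) = x * u * (z * x) * (u * z) := by group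
          _ = x * u * x * (z * u) * z := by rw [← hxz]; group
          _ = x * (u * x) * u * (z * z) := by rw [← h.uz]; group
          _ = x * x * (u * u) := by rw [← hxu, h.z_sq]; group
          _ = _ := by rw [h.u_sq]
      rw [this] at hsq
      exact mul_eq_left.1 hsq
  -- the functional
  let f0 : Q → ZMod 2 := fun x => val ((g : G) * x * (g : G)⁻¹ * (x : G)⁻¹)
  have hf0 : ∀ x : Q, f0 x = 0 ↔ (g : G) * x * (g : G)⁻¹ = x := by
    intro x
    constructor
    · intro h2
      by_contra hne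
      have : (g : G) * x * (g : G)⁻¹ * (x : G)⁻¹ ≠ 1 := by rwa [Ne, mul_inv_eq_one]
      rw [show f0 x = 1 from val_of_ne this] at h2
      exact one_ne_zero h2
    · intro h2
      show val _ = 0
      rw [h2, mul_inv_cancel, val_one]
  have hf1 : ∀ x : Q, f0 x = 1 ↔ (g : G) * x * (g : G)⁻¹ = x * z := by
    intro x
    have h01 : ∀ a : ZMod 2, a = 1 ↔ a ≠ 0 := by decide
    rw [h01, Ne, hf0]
    constructor
    · exact (h1 x).resolve_left
    · intro h2 h3
      rw [h3] at h2
      exact h.z_ne (mul_eq_left.1 h2.symm)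
  have hfmul : ∀ x y : Q, f0 (x * y) = f0 x + f0 y := by
    intro x y
    have e : (g : G) * ((x * y : Q) : G) * (g : G)⁻¹ = (g * x * (g : G)⁻¹) * (g * y * (g : G)⁻¹) := by
      rw [Subgroup.coe_mul]; group
    have hyz := h.comm_z y y.2
    rcases h1 x with h2 | h2 <;> rcases h1 y with h3 | h3
    · rw [(hf0 x).2 h2, (hf0 y).2 h3, (hf0 _).2]; · rfl
      rw [e, h2, h3]; rfl
    · rw [(hf0 x).2 h2, (hf1 y).2 h3, (hf1 _).2]; · rfl
      rw [e, h2, h3, ← mul_assoc]; rfl
    · rw [(hf1 x).2 h2, (hf0 y).2 h3, (hf1 _).2]; · rfl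
      rw [e, h2, h3, mul_assoc, ← hyz, ← mul_assoc]; rfl
    · rw [(hf1 x).2 h2, (hf1 y).2 h3, (hf0 _).2]; · decide
      rw [e, h2, h3]
      calc (x : G) * z * (y * z) = x * (z * y) * z := by group
        _ = x * y * (z * z) := by rw [← hyz]; group
        _ = _ := by rw [h.z_sq, mul_one]; rfl
  have hfcongr : ∀ x y : Q, h.pr x = h.pr y → f0 x = f0 y := by
    intro x y hxy
    have h2 : h.pr (y⁻¹ * x) = 0 := by rw [h.pr_mul, h.pr_inv, hxy, neg_add_cancel]
    have h3 : f0 (y⁻¹ * x) = 0 := by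
      rw [hf0]
      have hguu : (g : G) * u * (g : G)⁻¹ = u := by rw [hu]; group
      rcases h.pr_eq_zero.1 h2 with h3 | h3 | h3 | h3 <;> rw [h3]
      · group
      · exact hz
      · exact hguu
      · calc (g : G) * (u * z) * (g : G)⁻¹ = (g * u * (g : G)⁻¹) * (g * z * (g : G)⁻¹) := by group
          _ = u * z := by rw [hguu, hz]
    have h4 : x = y * (y⁻¹ * x) := by group
    rw [h4, hfmul, h3, add_zero]
  obtain ⟨v, hv⟩ := h.exists_b_eq (AddMonoidHom.toZModLinearMap 2
    { toFun := fun v => f0 (Function.surjInv h.pr_surjective v)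
      map_zero' := by
        rw [hfcongr _ 1 ((Function.surjInv_eq h.pr_surjective _).trans h.pr_one.symm), hf0]
        show (g : G) * 1 * (g : G)⁻¹ = 1
        group
      map_add' := by
        intro a b
        rw [← hfmul]
        apply hfcongr
        have e := Function.surjInv_eq h.pr_surjective
        rw [h.pr_mul, e, e, e] })
  obtain ⟨x, rfl⟩ := h.pr_surjective v
  have hx : ∀ y : Q, h.b (h.pr x) (h.pr y) = f0 y := by
    intro y
    rw [hv]
    exact hfcongr _ _ (Function.surjInv_eq h.pr_surjective _)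
  -- `x⁻¹ g` centralises `Q`
  have hc : ∀ y ∈ Q, ((x : G)⁻¹ * g) * y = y * ((x : G)⁻¹ * g) := by
    intro y hy
    have hyz := h.comm_z y hy
    have hxz := h.comm_z x x.2
    rcases h1 ⟨y, hy⟩ with h2 | h2
    · have h3 := (hf0 ⟨y, hy⟩).2 h2
      rw [← hx, h.b_pr] at h3
      have h2' : (g : G) * y = y * g := by
        have h2'' : (g : G) * y * (g : G)⁻¹ = y := h2
        rw [mul_inv_eq_iff_eq_mul] at h2''
        exact h2''
      have h3' : (x : G) * y = y * x := h3
      have h4 : (x : G)⁻¹ * y = y * (x : G)⁻¹ := by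
        rw [inv_mul_eq_iff_eq_mul, ← mul_assoc, h3']; group
      rw [mul_assoc, h2', ← mul_assoc, h4, mul_assoc]
    · have h3 := (hf1 ⟨y, hy⟩).2 h2
      rw [← hx, h.b_pr_one] at h3
      have h2' : (g : G) * y = y * z * g := by
        have h2'' : (g : G) * y * (g : G)⁻¹ = y * z := h2
        rw [mul_inv_eq_iff_eq_mul] at h2''
        exact h2''
      have h3' : (x : G) * y = y * x * z := h3
      have h4 : (x : G)⁻¹ * (y * z) = y * (x : G)⁻¹ := by
        rw [inv_mul_eq_iff_eq_mul, ← mul_assoc, h3', mul_assoc (_ * _) z, ]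
        calc y * z = y * (x * (z * (x : G)⁻¹)) := by
              rw [← mul_assoc (x : G) z, hxz, mul_assoc, mul_inv_cancel, mul_one]
          _ = y * x * (z * (x : G)⁻¹) := by group
      rw [mul_assoc, h2', ← mul_assoc, h4, mul_assoc]
  have hxg : ((x : G)⁻¹ * g) * z = z * ((x : G)⁻¹ * g) := by
    have hxz : (x : G)⁻¹ * z = z * (x : G)⁻¹ := (h.commz x.2).inv_left.eq
    rw [mul_assoc, hgz, ← mul_assoc, hxz, mul_assoc]
  have h5 : (x : G)⁻¹ * g ∈ Q := by
    rcases h.self _ hxg hc with h6 | h6 | h6 | h6 <;> rw [h6]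
    · exact one_mem _
    · exact h.z_mem
    · exact h.u_mem
    · exact mul_mem h.u_mem h.z_mem
  have h6 := mul_mem x.2 h5
  rwa [← mul_assoc, mul_inv_cancel, one_mul] at h6

theorem isPGroup (h : Symp Q z u) : IsPGroup 2 Q := by
  intro x
  refine ⟨2, ?_⟩
  apply Subtype.ext
  show ((x : G)) ^ (2 ^ 2) = 1
  have : (x : G) ^ (2 ^ 2) = (x * x) * (x * x) := by
    rw [show (2 ^ 2 : ℕ) = 2 * 2 from rfl, pow_mul, pow_two, pow_two]
  rw [this]
  rcases h.sq x x.2 with h1 | h1 <;> rw [h1]
  · rw [one_mul]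
  · exact h.z_sq

/-- the kernel of the action is `Q` -/
theorem mem_of_act [Finite Q] (h : Symp Q z u) (g : Subgroup.centralizer ({z} : Set G))
    (hg : h.act g = 1) : (g : G) ∈ Q := by
  have hle : (h.act.ker.map (Subgroup.centralizer ({z} : Set G)).subtype) ≤ Q := by
    apply h.core
    · rintro _ ⟨x, -, rfl⟩
      exact Subgroup.mem_centralizer_singleton_iff.1 x.2
    · rintro g hg _ ⟨x, hx, rfl⟩
      have hgC : g ∈ Subgroup.centralizer ({z} : Set G) := Subgroup.mem_centralizer_singleton_iff.2 hg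
      have hn : (⟨g, hgC⟩ * x * ⟨g, hgC⟩⁻¹ : Subgroup.centralizer ({z} : Set G)) ∈ h.act.ker := by
        have hx' : h.act x = 1 := hx
        rw [MonoidHom.mem_ker, map_mul, map_mul, hx', mul_one, ← map_mul, mul_inv_cancel, map_one]
      exact Subgroup.mem_map_of_mem _ hn
    · -- a 2-group: `x²` centralises `u`
      rintro ⟨_, x, hx, rfl⟩
      have hx1 : h.act x = 1 := hx
      have hxz : (x : G) * z = z * x := Subgroup.mem_centralizer_singleton_iff.1 x.2
      have hx2 : h.act (x * x) = 1 := by rw [map_mul, hx1, one_mul]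
      have hc : ((x * x : Subgroup.centralizer ({z} : Set G)) : G) * u = u * ((x * x : Subgroup.centralizer ({z} : Set G)) : G) := by
        have hz : (x : G) * z * (x : G)⁻¹ = z := by rw [hxz]; group
        have h1 : (x : G) * (x * u * (x : G)⁻¹) * (x : G)⁻¹ = u := by
          rcases h.conj_u hxz with h2 | h2
          · rw [h2, h2]
          · rw [h2]
            calc (x : G) * (u * z) * (x : G)⁻¹ = (x * u * (x : G)⁻¹) * (x * z * (x : G)⁻¹) := by group
              _ = u := by rw [h2, hz, mul_assoc, h.z_sq, mul_one]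
        show (x : G) * x * u = u * (x * x)
        calc (x : G) * x * u = (x : G) * (x * u * (x : G)⁻¹) * (x : G)⁻¹ * (x * x) := by group
          _ = u * (x * x) := by rw [h1]
      have h3 := h.mem_of_act_comm (x * x) hx2 hc
      obtain ⟨k, hk⟩ := h.isPGroup ⟨_, h3⟩
      refine ⟨k + 1, ?_⟩
      apply Subtype.ext
      have h4 : (((x * x : Subgroup.centralizer ({z} : Set G)) : G)) ^ (2 ^ k) = 1 := congrArg (fun t : Q => (t : G)) hk
      show (x : G) ^ (2 ^ (k + 1)) = 1
      rw [pow_succ', pow_mul, pow_two]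
      exact h4
  exact hle ⟨g, hg, rfl⟩

end Symp

end Cfsg.Agent.ClassificationK.SymplSetup
end

-- part: ClassificationK/SymplFam
section
/-!
# The class `D = z^G` with the subgroups `Q a = F*(C(a))`, `U a = Z(Q a) = ⟨u a⟩` (S1758, helper577)

* `Fam D Q u` and its existence `exists_fam`;
* types `A` / `B` of commuting pairs: `Fam.typeA_or_typeB`;
* closure: `Fam.mul_mem`: `a, b ∈ D` commuting and distinct `→ a * b ∈ D`.
-/

set_option autoImplicit false

namespace Cfsg.Agent.ClassificationK.SymplSetup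

variable {G : Type*} [Group G]

theorem conj_mem_map {Q : Subgroup G} (g x : G) :
    x ∈ Q.map (MulAut.conj g).toMonoidHom ↔ g⁻¹ * x * g ∈ Q := by
  constructor
  · rintro ⟨y, hy, rfl⟩
    have : g⁻¹ * (MulAut.conj g).toMonoidHom y * g = y := by
      show g⁻¹ * (g * y * g⁻¹) * g = y
      group
    rw [this]; exact hy
  · intro h
    refine ⟨_, h, ?_⟩
    show g * (g⁻¹ * x * g) * g⁻¹ = x
    group

namespace Symp

variable {Q : Subgroup G} {z u : G}

/-- the generator `u⁻¹` -/
theorem inv (h : Symp Q z u) : Symp Q z u⁻¹ where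
  u_mem := inv_mem h.u_mem
  u_sq := by rw [← mul_inv_rev, h.u_sq, h.z_inv]
  z_ne := h.z_ne
  z_sq := h.z_sq
  comm_u := fun x hx => (h.commu hx).inv_right.eq
  conj_mem := h.conj_mem
  sq := h.sq
  comm := h.comm
  self := fun g hg hc => by
    rcases h.self g hg hc with h1 | h1 | h1 | h1
    · exact Or.inl h1
    · exact Or.inr (Or.inl h1)
    · right; right; right
      rw [h1, h.u_inv, mul_assoc, h.z_sq, mul_one]
    · right; right; left
      rw [h1, h.u_inv]
  core := h.core
  nonab := h.nonab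

theorem conj (h : Symp Q z u) (g : G) :
    Symp (Q.map (MulAut.conj g).toMonoidHom) (g * z * g⁻¹) (g * u * g⁻¹) := by
  have hcz : ∀ x, x * (g * z * g⁻¹) = (g * z * g⁻¹) * x ↔ (g⁻¹ * x * g) * z = z * (g⁻¹ * x * g) := by
    intro x
    constructor
    · intro hx
      calc (g⁻¹ * x * g) * z = g⁻¹ * (x * (g * z * g⁻¹)) * g := by group
        _ = z * (g⁻¹ * x * g) := by rw [hx]; group
    · intro hx
      calc x * (g * z * g⁻¹) = g * ((g⁻¹ * x * g) * z) * g⁻¹ := by group
        _ = (g * z * g⁻¹) * x := by rw [hx]; group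
  refine
    { u_mem := ⟨u, h.u_mem, rfl⟩
      u_sq := ?_
      z_ne := ?_
      z_sq := ?_
      comm_u := ?_
      conj_mem := ?_
      sq := ?_
      comm := ?_
      self := ?_
      core := ?_
      nonab := ?_ }
  · calc g * u * g⁻¹ * (g * u * g⁻¹) = g * (u * u) * g⁻¹ := by group
      _ = g * z * g⁻¹ := by rw [h.u_sq]
  · intro h1
    apply h.z_ne
    calc z = g⁻¹ * (g * z * g⁻¹) * g := by group
      _ = 1 := by rw [h1]; group
  · calc g * z * g⁻¹ * (g * z * g⁻¹) = g * (z * z) * g⁻¹ := by group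
      _ = 1 := by rw [h.z_sq]; group
  · intro x hx
    rw [conj_mem_map] at hx
    have h1 := h.comm_u _ hx
    calc x * (g * u * g⁻¹) = g * ((g⁻¹ * x * g) * u) * g⁻¹ := by group
      _ = g * u * g⁻¹ * x := by rw [h1]; group
  · intro c hc x hx
    rw [conj_mem_map] at hx ⊢
    rw [hcz] at hc
    have h1 := h.conj_mem _ hc _ hx
    have e : g⁻¹ * c * g * (g⁻¹ * x * g) * (g⁻¹ * c * g)⁻¹ = g⁻¹ * (c * x * c⁻¹) * g := by group
    rwa [e] at h1
  · intro x hx
    rw [conj_mem_map] at hx
    rcases h.sq _ hx with h1 | h1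
    · left
      calc x * x = g * ((g⁻¹ * x * g) * (g⁻¹ * x * g)) * g⁻¹ := by group
        _ = 1 := by rw [h1]; group
    · right
      calc x * x = g * ((g⁻¹ * x * g) * (g⁻¹ * x * g)) * g⁻¹ := by group
        _ = _ := by rw [h1]
  · intro x hx y hy
    rw [conj_mem_map] at hx hy
    rcases h.comm _ hx _ hy with h1 | h1
    · left
      calc x * y = g * ((g⁻¹ * x * g) * (g⁻¹ * y * g)) * g⁻¹ := by group
        _ = _ := by rw [h1]; group
    · right
      calc x * y = g * ((g⁻¹ * x * g) * (g⁻¹ * y * g)) * g⁻¹ := by group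
        _ = _ := by rw [h1]; group
  · intro c hc hx
    rw [hcz] at hc
    have h1 := h.self _ hc (by
      intro x hxQ
      have h2 := hx (g * x * g⁻¹) ⟨x, hxQ, rfl⟩
      calc g⁻¹ * c * g * x = g⁻¹ * (c * (g * x * g⁻¹)) * g := by group
        _ = x * (g⁻¹ * c * g) := by rw [h2]; group)
    have e : ∀ d, g⁻¹ * c * g = d → c = g * d * g⁻¹ := by
      intro d hd; rw [← hd]; group
    rcases h1 with h1 | h1 | h1 | h1
    · left; rw [e _ h1]; group
    · right; left; exact e _ h1
    · right; right; left; exact e _ h1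
    · right; right; right; rw [e _ h1]; group
  · intro N hN1 hN2 hN3
    have h1 : N.map (MulAut.conj g⁻¹).toMonoidHom ≤ Q := by
      apply h.core
      · rintro _ ⟨x, hx, rfl⟩
        have h2 := (hcz x).1 (hN1 x hx)
        show (g⁻¹ * x * (g⁻¹)⁻¹) * z = z * (g⁻¹ * x * (g⁻¹)⁻¹)
        rwa [inv_inv]
      · rintro c hc _ ⟨x, hx, rfl⟩
        refine ⟨(g * c * g⁻¹) * x * (g * c * g⁻¹)⁻¹, hN2 _ ?_ x hx, ?_⟩
        · rw [hcz]
          have e : g⁻¹ * (g * c * g⁻¹) * g = c := by group
          rw [e]; exact hc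
        · show g⁻¹ * ((g * c * g⁻¹) * x * (g * c * g⁻¹)⁻¹) * (g⁻¹)⁻¹ = c * (g⁻¹ * x * (g⁻¹)⁻¹) * c⁻¹
          group
      · exact hN3.map _
    intro x hx
    rw [conj_mem_map]
    have h2 := h1 ⟨x, hx, rfl⟩
    have e : (MulAut.conj g⁻¹).toMonoidHom x = g⁻¹ * x * g := by
      show g⁻¹ * x * (g⁻¹)⁻¹ = g⁻¹ * x * g
      rw [inv_inv]
    rwa [e] at h2
  · obtain ⟨x, hx, y, hy, hxy⟩ := h.nonab
    refine ⟨g * x * g⁻¹, ⟨x, hx, rfl⟩, g * y * g⁻¹, ⟨y, hy, rfl⟩, fun h1 => hxy ?_⟩
    calc x * y = g⁻¹ * ((g * x * g⁻¹) * (g * y * g⁻¹)) * g := by group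
      _ = y * x := by rw [h1]; group

/-- If `g` and `g'` conjugate `z` to the same element, `Q^g = Q^g'`. -/
theorem map_eq_of_conj (h : Symp Q z u) {g g' : G} (hg : g * z * g⁻¹ = g' * z * g'⁻¹) :
    Q.map (MulAut.conj g).toMonoidHom = Q.map (MulAut.conj g').toMonoidHom := by
  have key : ∀ g g' : G, g * z * g⁻¹ = g' * z * g'⁻¹ →
      Q.map (MulAut.conj g).toMonoidHom ≤ Q.map (MulAut.conj g').toMonoidHom := by
    rintro g g' hg _ ⟨x, hx, rfl⟩
    have h1 : (g'⁻¹ * g) * z = z * (g'⁻¹ * g) := by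
      have : g'⁻¹ * g * z * g⁻¹ * g' = z := by
        calc g'⁻¹ * g * z * g⁻¹ * g' = g'⁻¹ * (g * z * g⁻¹) * g' := by group
          _ = z := by rw [hg]; group
      calc g'⁻¹ * g * z = (g'⁻¹ * g * z * g⁻¹ * g') * (g'⁻¹ * g) := by group
        _ = _ := by rw [this]
    refine ⟨_, h.conj_mem _ h1 x hx, ?_⟩
    show g' * (g'⁻¹ * g * x * (g'⁻¹ * g)⁻¹) * g'⁻¹ = g * x * g⁻¹
    group
  exact le_antisymm (key g g' hg) (key g' g hg.symm)

/-- `Symp` in the form of `LargeSymplectic.Data`. -/
theorem data (h : Symp Q z u) : LargeSymplectic.Data Q z where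
  sqz := h.z_sq
  norm := h.conj_mem
  cent := fun c hc => by
    have hz : c * z = z * c := by
      have := hc z h.z_mem
      rw [mul_inv_eq_iff_eq_mul] at this
      exact this.symm
    rcases h.self c hz (fun x hx => by
      have := hc x hx
      rw [mul_inv_eq_iff_eq_mul] at this
      exact this.symm) with h1 | h1 | h1 | h1 <;> rw [h1]
    · exact one_mem _
    · exact h.z_mem
    · exact h.u_mem
    · exact mul_mem h.u_mem h.z_mem
  mem := h.z_mem
  com := h.comm_z
  comm := fun x hx y hy => by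
    rcases h.comm x hx y hy with h1 | h1
    · left; rw [h1]; group
    · right
      rw [h1, mul_assoc (y * x), ← (h.commz hx).inv_left.eq, ← (h.commz hy).eq]
      group
  sq := h.sq
  cen := fun x hx hc hxx => by
    rcases h.cent x hx (fun y hy => by
      have := hc y hy
      rw [mul_inv_eq_iff_eq_mul] at this
      exact this.symm) with h1 | h1 | h1 | h1
    · exact Or.inl h1
    · exact Or.inr h1
    · exfalso; rw [h1, h.u_sq] at hxx; exact h.z_ne hxx
    · exfalso
      apply h.z_ne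
      rw [h1] at hxx
      calc z = (u * u) * (z * z) := by rw [h.u_sq, h.z_sq, mul_one]
        _ = u * (u * z) * z := by group
        _ = u * (z * u) * z := by rw [h.uz]
        _ = u * z * (u * z) := by group
        _ = 1 := hxx

/-- An involution of `Q` other than `z` is conjugate in `Q` to its product with `z`. -/
theorem exists_conj (h : Symp Q z u) {x : G} (hx : x ∈ Q) (hxx : x * x = 1) (h1 : x ≠ 1) (hz : x ≠ z) :
    ∃ y ∈ Q, y * x * y⁻¹ = x * z := by
  by_contra hcon
  push Not at hcon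
  have h2 : ∀ y ∈ Q, x * y = y * x := by
    intro y hy
    rcases h.comm y hy x hx with h2 | h2
    · exact h2.symm
    · exfalso
      apply hcon y hy
      rw [h2, mul_assoc _ z, ← (h.commz hy).inv_left.eq]
      group
  rcases h.cent x hx h2 with h3 | h3 | h3 | h3
  · exact h1 h3
  · exact hz h3
  · rw [h3, h.u_sq] at hxx; exact h.z_ne hxx
  · apply h.z_ne
    rw [h3] at hxx
    calc z = (u * u) * (z * z) := by rw [h.u_sq, h.z_sq, mul_one]
      _ = u * (u * z) * z := by group
      _ = u * (z * u) * z := by rw [h.uz]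
      _ = u * z * (u * z) := by group
      _ = 1 := hxx

/-- The square roots of `z` centralising `Q` are `u`, `u⁻¹`. -/
theorem eq_u_or (h : Symp Q z u) {x : G} (hxx : x * x = z) (hc : ∀ y ∈ Q, x * y = y * x) :
    x = u ∨ x = u * z := by
  have hxz : x * z = z * x := by rw [← hxx]; group
  rcases h.self x hxz hc with h3 | h3 | h3 | h3
  · exfalso; rw [h3, one_mul] at hxx; exact h.z_ne hxx.symm
  · exfalso; rw [h3, h.z_sq] at hxx; exact h.z_ne hxx.symm
  · exact Or.inl h3
  · exact Or.inr h3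

end Symp

/-- The class `D` of `z` with `Q a = F*(C(a))` and a generator `u a` of `Z(Q a)` for `a ∈ D`. -/
structure Fam (D : Set G) (Q : G → Subgroup G) (u : G → G) : Prop where
  loc : ∀ a ∈ D, Symp (Q a) a (u a)
  conj_mem : ∀ a ∈ D, ∀ g, g * a * g⁻¹ ∈ D
  conjQ : ∀ a ∈ D, ∀ g, Q (g * a * g⁻¹) = (Q a).map (MulAut.conj g).toMonoidHom
  trans : ∀ a ∈ D, ∀ b ∈ D, ∃ g, g * a * g⁻¹ = b

theorem exists_fam {Q : Subgroup G} {z u : G} (h : Symp Q z u) :
    ∃ (Qf : G → Subgroup G) (uf : G → G), Fam {a | ∃ g, g * z * g⁻¹ = a} Qf uf ∧ Qf z = Q ∧ uf z = u := by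
  classical
  set D : Set G := {a | ∃ g, g * z * g⁻¹ = a} with hD
  have hex : ∀ a : G, ∃ g : G, (a ∈ D → g * z * g⁻¹ = a) ∧ (a = z → g = 1) := by
    intro a
    by_cases haz : a = z
    · exact ⟨1, fun _ => by rw [haz]; group, fun _ => rfl⟩
    by_cases ha : a ∈ D
    · obtain ⟨g, hg⟩ := ha
      exact ⟨g, fun _ => hg, fun h1 => absurd h1 haz⟩
    · exact ⟨1, fun h1 => absurd h1 ha, fun _ => rfl⟩
  choose γ hγ hγz using hex
  refine ⟨fun a => Q.map (MulAut.conj (γ a)).toMonoidHom, fun a => γ a * u * (γ a)⁻¹, ?_, ?_, ?_⟩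
  · refine ⟨?_, ?_, ?_, ?_⟩
    · intro a ha
      have := h.conj (γ a)
      rwa [hγ a ha] at this
    · rintro a ⟨k, rfl⟩ g
      exact ⟨g * k, by group⟩
    · intro a ha g
      have ha' : g * a * g⁻¹ ∈ D := by
        obtain ⟨k, rfl⟩ := ha
        exact ⟨g * k, by group⟩
      show Q.map (MulAut.conj (γ (g * a * g⁻¹))).toMonoidHom =
        (Q.map (MulAut.conj (γ a)).toMonoidHom).map (MulAut.conj g).toMonoidHom
      have h1 : (Q.map (MulAut.conj (γ a)).toMonoidHom).map (MulAut.conj g).toMonoidHom =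
          Q.map (MulAut.conj (g * γ a)).toMonoidHom := by
        rw [Subgroup.map_map]
        congr 1
        ext y
        show g * (γ a * y * (γ a)⁻¹) * g⁻¹ = g * γ a * y * (g * γ a)⁻¹
        group
      rw [h1]
      apply h.map_eq_of_conj
      rw [hγ _ ha']
      calc g * a * g⁻¹ = g * (γ a * z * (γ a)⁻¹) * g⁻¹ := by rw [hγ a ha]
        _ = g * γ a * z * (g * γ a)⁻¹ := by group
    · rintro a ⟨k, rfl⟩ b ⟨l, rfl⟩
      exact ⟨l * k⁻¹, by group⟩
  · show Q.map (MulAut.conj (γ z)).toMonoidHom = Q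
    rw [hγz z rfl]
    ext x
    rw [conj_mem_map]
    simp
  · show γ z * u * (γ z)⁻¹ = u
    rw [hγz z rfl]
    group

namespace Fam

variable {D : Set G} {Q : G → Subgroup G} {u : G → G}

/-- `u` of a conjugate. -/
theorem conju (F : Fam D Q u) {a : G} (ha : a ∈ D) (g : G) :
    u (g * a * g⁻¹) = g * u a * g⁻¹ ∨ u (g * a * g⁻¹) = (g * u a * g⁻¹)⁻¹ := by
  have h1 := (F.loc a ha).conj g
  rw [← F.conjQ a ha g] at h1
  have h2 := F.loc _ (F.conj_mem a ha g)
  rcases h1.eq_u_or h2.u_sq (fun y hy => (h2.comm_u y hy).symm) with h3 | h3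
  · exact Or.inl h3
  · right; rw [h3, h1.u_inv]

theorem mem_conjQ (F : Fam D Q u) {a : G} (ha : a ∈ D) (g x : G) :
    x ∈ Q (g * a * g⁻¹) ↔ g⁻¹ * x * g ∈ Q a := by
  rw [F.conjQ a ha g, conj_mem_map]

/-- `g` centralising `a ∈ D` centralises or inverts `u a`. -/
theorem conj_u (F : Fam D Q u) {a g : G} (ha : a ∈ D) (hg : g * a = a * g) :
    g * u a = u a * g ∨ g * u a * g⁻¹ = u a * a := by
  rcases (F.loc a ha).conj_u hg with h | h
  · left
    rw [mul_inv_eq_iff_eq_mul] at h
    exact h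
  · exact Or.inr h

theorem comm_of_comm_u (F : Fam D Q u) {a g : G} (ha : a ∈ D) (hg : g * u a = u a * g) : g * a = a * g := by
  have h := (F.loc a ha).u_sq
  rw [← h, ← mul_assoc, hg, mul_assoc, hg, mul_assoc]

/-- **Types.** Let `a, b ∈ D` be distinct and commute. Either (A) `u a` and `u b` commute, or (B) `a` inverts `u b`
and `b` inverts `u a`. -/
theorem typeA_or_typeB (F : Fam D Q u) {a b : G} (ha : a ∈ D) (hb : b ∈ D) (hne : a ≠ b) (hab : a * b = b * a) :
    u a * u b = u b * u a ∨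
      (a * u b * a⁻¹ = u b * b ∧ b * u a * b⁻¹ = u a * a) := by
  have key : ∀ a b, a ∈ D → b ∈ D → a ≠ b → a * b = b * a → a * u b = u b * a → u a * u b = u b * u a := by
    intro a b ha hb hne hab h1
    -- `u b` centralises `a`, hence centralises or inverts `u a`; `b` centralises `u a`
    have h2 : u b * a = a * u b := h1.symm
    rcases F.conj_u ha h2 with h3 | h3
    · exact h3.symm
    · -- `b = (u b)²` centralises `u a`
      exfalso
      have la := F.loc a ha
      have lb := F.loc b hb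
      have h4 : u b * a * (u b)⁻¹ = a := by rw [h2]; group
      have h5 : b * u a = u a * b := by
        have : b * u a * b⁻¹ = u a := by
          calc b * u a * b⁻¹ = (u b * u b) * u a * (u b * u b)⁻¹ := by rw [lb.u_sq]
            _ = u b * (u b * u a * (u b)⁻¹) * (u b)⁻¹ := by group
            _ = u b * (u a * a) * (u b)⁻¹ := by rw [h3]
            _ = (u b * u a * (u b)⁻¹) * (u b * a * (u b)⁻¹) := by group
            _ = u a * a * a := by rw [h3, h4]
            _ = u a := by rw [mul_assoc, la.z_sq, mul_one]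
        rw [mul_inv_eq_iff_eq_mul] at this
        exact this
      -- so `u a` centralises `b` and centralises or inverts `u b`
      rcases F.conj_u hb h5.symm with h6 | h6
      · have : u b * u a * (u b)⁻¹ = u a := by rw [← h6]; group
        rw [this] at h3
        exact la.z_ne (mul_eq_left.1 h3.symm)
      · -- `[u b, u a] = a`-ish and `= b`-ish
        apply hne
        have e1 : u b * u a = u a * a * u b := by
          rw [mul_inv_eq_iff_eq_mul] at h3; exact h3
        have e2 : u a * u b = u b * b * u a := by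
          rw [mul_inv_eq_iff_eq_mul] at h6; exact h6
        have e3 : b * u a = u a * b := h5
        have e4 : u a * a * u b = u a * u b * a := by rw [mul_assoc, ← h2, mul_assoc]
        have e5 : u b * b * u a = u b * u a * b := by rw [mul_assoc, e3, mul_assoc]
        -- e1: ub ua = ua ub a ; e2 : ua ub = ub ua b
        rw [e4] at e1
        rw [e5] at e2
        rw [e2] at e1
        -- ub ua = ub ua b a
        have e6 : b * a = 1 := by
          have := mul_left_cancel (a := u b * u a) (b := 1) (c := b * a) (by rw [mul_one, ← mul_assoc]; exact e1)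
          exact this.symm
        calc a = b⁻¹ := by rw [eq_inv_iff_mul_eq_one, hab, e6]
          _ = b := lb.z_inv
  rcases F.conj_u hb hab with h1 | h1
  · exact Or.inl (key a b ha hb hne hab h1)
  · rcases F.conj_u ha hab.symm with h2 | h2
    · exact Or.inl (key b a hb ha hne.symm hab.symm h2).symm
    · exact Or.inr ⟨h1, h2⟩

/-- **Closure in type B.** -/
theorem mul_mem_of_inv (F : Fam D Q u) {a b : G} (ha : a ∈ D) (hb : b ∈ D)
    (h : b * u a * b⁻¹ = u a * a) : a * b ∈ D := by
  have la := F.loc a ha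
  have h1 := F.conj_mem b hb (u a)⁻¹
  have e : (u a)⁻¹ * b * ((u a)⁻¹)⁻¹ = a * b := by
    rw [inv_inv]
    calc (u a)⁻¹ * b * u a = (u a)⁻¹ * (b * u a * b⁻¹) * b := by group
      _ = a * b := by rw [h]; group
  rwa [e] at h1

/-- **Closure in type A, first case.** -/
theorem mul_mem_of_mem (F : Fam D Q u) {a b : G} (ha : a ∈ D) (hb : b ∈ D) (hne : a ≠ b)
    (h : b ∈ Q a) : a * b ∈ D := by
  have la := F.loc a ha
  have lb := F.loc b hb
  obtain ⟨y, hy, h1⟩ := la.exists_conj h lb.z_sq lb.z_ne hne.symm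
  have h2 := F.conj_mem b hb y
  rw [h1, la.comm_z b h] at h2
  exact h2

/-- The fixed point argument: an element of a 2-group acting on the 2-group `K` without fixed points outside `P`. -/
theorem eq_of_fixed [Finite G] {K P : Subgroup G} (hK : IsPGroup 2 K) (hPK : P ≤ K)
    {r : G} {n : ℕ} (hr : r ^ (2 ^ n) = 1) (hrK : ∀ x ∈ K, r * x * r⁻¹ ∈ K) (hrP : ∀ x ∈ P, r * x * r⁻¹ ∈ P)
    (hfix : ∀ x ∈ K, x⁻¹ * (r * x * r⁻¹) ∈ P → x ∈ P) : P = K := by
  classical
  by_contra hne
  -- action of `⟨r⟩` on the cosets of `P` in `K`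
  have hrK' : ∀ k : ℕ, ∀ x ∈ K, r ^ k * x * (r ^ k)⁻¹ ∈ K := by
    intro k
    induction k with
    | zero => intro x hx; simpa using hx
    | succ k ih =>
      intro x hx
      have e : r ^ (k + 1) * x * (r ^ (k + 1))⁻¹ = r * (r ^ k * x * (r ^ k)⁻¹) * r⁻¹ := by
        rw [pow_succ']; group
      rw [e]
      exact hrK _ (ih x hx)
  have hrP' : ∀ k : ℕ, ∀ x ∈ P, r ^ k * x * (r ^ k)⁻¹ ∈ P := by
    intro k
    induction k with
    | zero => intro x hx; simpa using hx
    | succ k ih =>
      intro x hx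
      have e : r ^ (k + 1) * x * (r ^ (k + 1))⁻¹ = r * (r ^ k * x * (r ^ k)⁻¹) * r⁻¹ := by
        rw [pow_succ']; group
      rw [e]
      exact hrP _ (ih x hx)
  have hfin : Finite (Subgroup.zpowers r) := inferInstance
  have hgenK : ∀ s : Subgroup.zpowers r, ∀ x ∈ K, (s : G) * x * (s : G)⁻¹ ∈ K := by
    intro s x hx
    obtain ⟨k, hk⟩ := (mem_powers_iff_mem_zpowers.2 s.2 : (s : G) ∈ Submonoid.powers r)
    have hk' : r ^ k = (s : G) := hk
    rw [← hk']
    exact hrK' k x hx
  have hgenP : ∀ s : Subgroup.zpowers r, ∀ x ∈ P, (s : G) * x * (s : G)⁻¹ ∈ P := by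
    intro s x hx
    obtain ⟨k, hk⟩ := (mem_powers_iff_mem_zpowers.2 s.2 : (s : G) ∈ Submonoid.powers r)
    have hk' : r ^ k = (s : G) := hk
    rw [← hk']
    exact hrP' k x hx
  let X := K ⧸ (P.subgroupOf K)
  let f : Subgroup.zpowers r → K → K := fun s x => ⟨(s : G) * (x : G) * (s : G)⁻¹, hgenK s x x.2⟩
  have hf : ∀ s : Subgroup.zpowers r, ∀ x y : K, QuotientGroup.leftRel (P.subgroupOf K) x y →
      QuotientGroup.leftRel (P.subgroupOf K) (f s x) (f s y) := by
    intro s x y hxy
    rw [QuotientGroup.leftRel_apply, Subgroup.mem_subgroupOf] at hxy ⊢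
    have h1 := hgenP s _ hxy
    have e : (s : G) * ((x⁻¹ * y : K) : G) * (s : G)⁻¹ = (((f s x)⁻¹ * f s y : K) : G) := by
      show (s : G) * ((x : G)⁻¹ * y) * (s : G)⁻¹ = ((s : G) * x * (s : G)⁻¹)⁻¹ * ((s : G) * y * (s : G)⁻¹)
      group
    rwa [e] at h1
  let act : MulAction (Subgroup.zpowers r) X :=
    { smul := fun s => Quotient.map' (f s) (fun x y hxy => hf s x y hxy)
      one_smul := by
        intro x
        induction x using Quotient.inductionOn' with
        | h x =>
          show Quotient.mk'' (f 1 x) = Quotient.mk'' x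
          congr 1
          apply Subtype.ext
          show (1 : G) * x * (1 : G)⁻¹ = x
          group
      mul_smul := by
        intro s t x
        induction x using Quotient.inductionOn' with
        | h x =>
          show Quotient.mk'' (f (s * t) x) = Quotient.mk'' (f s (f t x))
          congr 1
          apply Subtype.ext
          show ((s * t : Subgroup.zpowers r) : G) * x * ((s * t : Subgroup.zpowers r) : G)⁻¹ =
            (s : G) * (t * x * (t : G)⁻¹) * (s : G)⁻¹
          rw [Subgroup.coe_mul]; group }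
  have hpg : IsPGroup 2 (Subgroup.zpowers r) := by
    intro s
    obtain ⟨k, hk⟩ := s.2
    refine ⟨n, ?_⟩
    apply Subtype.ext
    show (s : G) ^ (2 ^ n) = 1
    rw [← hk]
    show (r ^ k) ^ (2 ^ n) = 1
    rw [← zpow_natCast, ← zpow_mul, mul_comm, zpow_mul, zpow_natCast, hr, one_zpow]
  have : Fact (Nat.Prime 2) := ⟨Nat.prime_two⟩
  have hXfin : Finite X := inferInstance
  have h1 := hpg.card_modEq_card_fixedPoints X
  -- `|X|` is even
  have h2 : 2 ∣ Nat.card X := by
    have h3 : (P.subgroupOf K).index ≠ 1 := by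
      intro h3
      rw [Subgroup.index_eq_one, Subgroup.subgroupOf_eq_top] at h3
      exact hne (le_antisymm hPK h3)
    obtain ⟨m, hm⟩ := hK.index (P.subgroupOf K)
    have h4 : Nat.card X = (P.subgroupOf K).index := rfl
    rw [h4, hm]
    apply dvd_pow_self
    rintro rfl
    exact h3 (by rw [hm, pow_zero])
  have h3 : 2 ∣ Nat.card (MulAction.fixedPoints (Subgroup.zpowers r) X) := by
    have := (Nat.modEq_zero_iff_dvd.2 h2).symm.trans h1
    exact Nat.modEq_zero_iff_dvd.1 this.symm
  -- the fixed points are the trivial coset only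
  have h4 : Nat.card (MulAction.fixedPoints (Subgroup.zpowers r) X) = 1 := by
    rw [Nat.card_eq_one_iff_unique]
    refine ⟨⟨?_⟩, ⟨⟨((1 : K) : X), ?_⟩⟩⟩
    · have key : ∀ x ∈ MulAction.fixedPoints (Subgroup.zpowers r) X, x = ((1 : K) : X) := by
        intro x hx
        induction x using Quotient.inductionOn' with
        | h x =>
          have h5 := hx ⟨r, Subgroup.mem_zpowers r⟩
          have h6 : (QuotientGroup.mk (f ⟨r, Subgroup.mem_zpowers r⟩ x) : X) = QuotientGroup.mk x := h5
          rw [eq_comm, QuotientGroup.eq, Subgroup.mem_subgroupOf] at h6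
          have h7 := hfix x x.2 h6
          show (QuotientGroup.mk x : X) = QuotientGroup.mk 1
          rw [eq_comm, QuotientGroup.eq, Subgroup.mem_subgroupOf]
          simpa using h7
      rintro ⟨x, hx⟩ ⟨y, hy⟩
      apply Subtype.ext
      show x = y
      rw [key x hx, key y hy]
    · intro s
      show (QuotientGroup.mk (f s 1) : X) = QuotientGroup.mk 1
      congr 1
      apply Subtype.ext
      show (s : G) * ((1 : K) : G) * (s : G)⁻¹ = 1
      rw [Subgroup.coe_one]; group
  rw [h4] at h3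
  omega

end Fam

end Cfsg.Agent.ClassificationK.SymplSetup
end

-- part: ClassificationK/SymplClosure
section
/-!
# Closure of the class `D` under products of commuting elements, pairs `b ∈ Q a` (S1758, helper577)

* `Fam.comm_u_left`, `Fam.comm_u_right`: in type A the elements `u a`, `b` commute, etc.;
* `Fam.comm_u_of_comm`: case X (type A, `b ∉ Q a`): `C_{Q a}(b) = C_{Q a}(u b)`;
* `Fam.exists_conj_mul`: case X: `b` is conjugate to `b * a` in `Q a`;
* `Fam.mul_mem`: closure;
* `Fam.mem_symm`, `Fam.exists_swap`, `Fam.exists_cycle`: the four-group `⟨a, b⟩` for `b ∈ Q a`.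
-/

set_option autoImplicit false

namespace Cfsg.Agent.ClassificationK.SymplSetup

variable {G : Type*} [Group G]

namespace Fam

variable {D : Set G} {Q : G → Subgroup G} {u : G → G}

theorem u_pow_four (F : Fam D Q u) {a : G} (ha : a ∈ D) : u a ^ (2 ^ 2) = 1 := by
  have la := F.loc a ha
  rw [show (2 : ℕ) ^ 2 = 2 * 2 from rfl, pow_mul, pow_two (u a), la.u_sq, pow_two]
  exact la.z_sq

/-- In type A, `u b` centralises `a`. -/
theorem comm_u_left (F : Fam D Q u) {a b : G} (ha : a ∈ D) (hA : u a * u b = u b * u a) :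
    a * u b = u b * a := by
  have la := F.loc a ha
  rw [← la.u_sq, mul_assoc, hA, ← mul_assoc, hA, mul_assoc]

theorem comm_u_right (F : Fam D Q u) {a b : G} (hb : b ∈ D) (hA : u a * u b = u b * u a) :
    u a * b = b * u a := by
  have lb := F.loc b hb
  rw [← lb.u_sq, ← mul_assoc, hA, mul_assoc, hA, mul_assoc]

/-- Case X: type A, `b ∉ Q a`: `C_{Q a}(b) = C_{Q a}(u b)`. -/
theorem comm_u_of_comm (F : Fam D Q u) {a b : G} (ha : a ∈ D) (hb : b ∈ D)
    (hA : u a * u b = u b * u a) (hbQ : b ∉ Q a) {q : G} (hq : q ∈ Q a) (hqb : q * b = b * q) :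
    q * u b = u b * q := by
  have la := F.loc a ha
  have lb := F.loc b hb
  have hau : u b * a = a * u b := (F.comm_u_left ha hA).symm
  rcases F.conj_u hb hqb with h1 | h1
  · exact h1
  · -- `[q, u b] = b ∈ Q a`
    exfalso
    apply hbQ
    have h2 : (u b)⁻¹ * q * u b ∈ Q a := by
      have := la.conj_mem (u b)⁻¹ (by
        rw [inv_mul_eq_iff_eq_mul, ← mul_assoc, hau, mul_assoc, mul_inv_cancel, mul_one]) q hq
      rwa [inv_inv] at this
    have h3 := mul_mem (inv_mem h2) hq
    have e : ((u b)⁻¹ * q * u b)⁻¹ * q = (u b)⁻¹ * (q⁻¹ * u b * q) := by group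
    -- q⁻¹ (u b) q = u b * b as well
    have h4 : q⁻¹ * u b * q = u b * b := by
      have h5 : q * (u b * b) * q⁻¹ = u b := by
        calc q * (u b * b) * q⁻¹ = (q * u b * q⁻¹) * (q * b * q⁻¹) := by group
          _ = u b * b * b := by rw [h1, hqb]; group
          _ = u b := by rw [mul_assoc, lb.z_sq, mul_one]
      calc q⁻¹ * u b * q = q⁻¹ * (q * (u b * b) * q⁻¹) * q := by rw [h5]
        _ = u b * b := by group
    rw [e, h4, ← mul_assoc, inv_mul_cancel, one_mul] at h3
    exact h3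

/-- **Closure in case X** (type A, `b ∉ Q a`): some `x ∈ Q a` has `x * b * x⁻¹ = b * a`. -/
theorem exists_conj_mul [Finite G] (F : Fam D Q u) {a b : G} (ha : a ∈ D) (hb : b ∈ D)
    (hA : u a * u b = u b * u a) (hbQ : b ∉ Q a) : ∃ x ∈ Q a, x * b * x⁻¹ = b * a := by
  classical
  have la := F.loc a ha
  have lb := F.loc b hb
  by_contra hcon
  push Not at hcon
  have hba : b * a = a * b := by
    have h1 := F.comm_u_left ha hA
    have := F.comm_of_comm_u hb h1
    exact this.symm
  have hbu : b * u a = u a * b := (F.comm_u_right hb hA).symm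
  have hau : u b * a = a * u b := (F.comm_u_left ha hA).symm
  have binv : b⁻¹ = b := lb.z_inv
  -- `P = {q : [q, b] ∈ Z(Q a)}`; every element of `P` centralises `b`
  have hcomm : ∀ q ∈ Q a, (q⁻¹ * (b * q * b⁻¹) = 1 ∨ q⁻¹ * (b * q * b⁻¹) = a ∨ q⁻¹ * (b * q * b⁻¹) = u a ∨
      q⁻¹ * (b * q * b⁻¹) = u a * a) → b * q = q * b := by
    intro q hq h
    set c := q⁻¹ * (b * q * b⁻¹) with hc
    have hbq : b * q * b⁻¹ = q * c := by rw [hc]; group
    -- `c` commutes with `b` and `q`, and `c² = 1`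
    have hcQ : ∀ x, (x = 1 ∨ x = a ∨ x = u a ∨ x = u a * a) → x * b = b * x := by
      rintro x (rfl | rfl | rfl | rfl)
      · rw [one_mul, mul_one]
      · exact hba.symm
      · exact hbu.symm
      · rw [mul_assoc, ← hba, ← mul_assoc, ← hbu, mul_assoc]
    have hcb := hcQ c h
    have hcq : q * c = c * q := by
      rcases h with h1 | h1 | h1 | h1 <;> rw [h1]
      · rw [one_mul, mul_one]
      · exact la.comm_z q hq
      · exact la.comm_u q hq
      · rw [← mul_assoc, la.comm_u q hq, mul_assoc, la.comm_z q hq, mul_assoc]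
    have hcc : c * c = 1 := by
      have h2 : b * (b * q * b⁻¹) * b⁻¹ = q := by
        have : b * (b * q * b⁻¹) * b⁻¹ = (b * b) * q * (b * b)⁻¹ := by group
        rw [this, lb.z_sq]; group
      rw [hbq] at h2
      have h3 : b * (q * c) * b⁻¹ = (b * q * b⁻¹) * (b * c * b⁻¹) := by group
      rw [h3, hbq, ← hcb] at h2
      have h4 : q * c * (c * b * b⁻¹) = q * (c * c) := by group
      rw [h4] at h2
      exact mul_eq_left.1 h2
    rcases h with h1 | h1 | h1 | h1
    · rw [h1, mul_one, mul_inv_eq_iff_eq_mul] at hbq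
      exact hbq
    · exfalso
      apply hcon q hq
      rw [h1] at hbq
      -- b q b⁻¹ = q a → q b q⁻¹ = b a
      have h5 : b * q = q * a * b := by rw [mul_inv_eq_iff_eq_mul] at hbq; exact hbq
      have h6 : q * b = b * q * a := by
        rw [h5, mul_assoc, hba, mul_assoc, ← mul_assoc a a, la.z_sq, one_mul]
      rw [h6, mul_assoc b q a, la.comm_z q hq]
      group
    · exfalso
      rw [h1, la.u_sq] at hcc
      exact la.z_ne hcc
    · exfalso
      apply la.z_ne
      rw [h1] at hcc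
      calc a = (u a * u a) * (a * a) := by rw [la.u_sq, la.z_sq, mul_one]
        _ = u a * (u a * a) * a := by group
        _ = u a * (a * u a) * a := by rw [la.uz]
        _ = u a * a * (u a * a) := by group
        _ = 1 := hcc
  -- the subgroup `P`
  have hrK : ∀ x ∈ Q a, u b * x * (u b)⁻¹ ∈ Q a := fun x hx => la.conj_mem _ hau x hx
  let P : Subgroup G := Q a ⊓ Subgroup.centralizer {b}
  have hP : ∀ x, x ∈ P ↔ x ∈ Q a ∧ x * b = b * x := by
    intro x
    rw [Subgroup.mem_inf, Subgroup.mem_centralizer_singleton_iff]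
  have hPu : ∀ x ∈ P, x * u b = u b * x := fun x hx =>
    F.comm_u_of_comm ha hb hA hbQ ((hP x).1 hx).1 ((hP x).1 hx).2
  have key : P = Q a := by
    refine eq_of_fixed la.isPGroup inf_le_left (F.u_pow_four hb) hrK ?_ ?_
    · intro x hx
      have := hPu x hx
      rw [← this]
      have e : x * u b * (u b)⁻¹ = x := by group
      rwa [e]
    · intro x hx h1
      set c := x⁻¹ * (u b * x * (u b)⁻¹) with hc
      have hux : u b * x * (u b)⁻¹ = x * c := by rw [hc]; group
      have hcu := hPu c h1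
      have hcQ := ((hP c).1 h1).1
      -- `b x b⁻¹ = x c²`
      have h2 : b * x * b⁻¹ = x * (c * c) := by
        have e : b * x * b⁻¹ = u b * (u b * x * (u b)⁻¹) * (u b)⁻¹ := by
          have : b = u b * u b := lb.u_sq.symm
          calc b * x * b⁻¹ = (u b * u b) * x * (u b * u b)⁻¹ := by rw [lb.u_sq]
            _ = _ := by group
        rw [e, hux]
        calc u b * (x * c) * (u b)⁻¹ = (u b * x * (u b)⁻¹) * (u b * c * (u b)⁻¹) := by group
          _ = x * c * c := by rw [hux, ← hcu]; group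
          _ = x * (c * c) := by group
      rw [hP]
      refine ⟨hx, ?_⟩
      refine (hcomm x hx ?_).symm
      rw [h2]
      have e : x⁻¹ * (x * (c * c)) = c * c := by group
      rw [e]
      rcases la.sq c hcQ with h3 | h3
      · exact Or.inl h3
      · exact Or.inr (Or.inl h3)
  -- hence `b` centralises `Q a`
  have h1 : ∀ x ∈ Q a, b * x = x * b := by
    intro x hx
    rw [← key] at hx
    exact ((hP x).1 hx).2.symm
  apply hbQ
  rcases la.self b hba h1 with h2 | h2 | h2 | h2 <;> rw [h2]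
  · exact one_mem _
  · exact la.z_mem
  · exact la.u_mem
  · exact mul_mem la.u_mem la.z_mem

/-- **Closure**: the product of two distinct commuting members of `D` is in `D`. -/
theorem mul_mem [Finite G] (F : Fam D Q u) {a b : G} (ha : a ∈ D) (hb : b ∈ D) (hne : a ≠ b)
    (hab : a * b = b * a) : a * b ∈ D := by
  rcases F.typeA_or_typeB ha hb hne hab with h | ⟨-, h⟩
  · by_cases hbQ : b ∈ Q a
    · exact F.mul_mem_of_mem ha hb hne hbQ
    · obtain ⟨x, -, hx⟩ := F.exists_conj_mul ha hb h hbQ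
      have := F.conj_mem b hb x
      rw [hx, ← hab] at this
      exact this
  · exact F.mul_mem_of_inv ha hb h

/-! ### pairs `b ∈ Q a` -/

theorem main_pair (F : Fam D Q u) {a b : G} (ha : a ∈ D) (hb : b ∈ D) (hne : b ≠ a) (h : b ∈ Q a) :
    a ∈ Q b ∧ ∀ x ∈ Subgroup.closure ({a, b} : Set G), ∀ y ∈ Subgroup.closure ({a, b} : Set G),
      x ≠ 1 → y ≠ 1 → x ≠ y → ∃ g, g * a * g⁻¹ = x ∧ g * b * g⁻¹ = y := by
  obtain ⟨g, rfl⟩ := F.trans a ha b hb
  obtain ⟨h1, h2⟩ := LargeSymplectic.main (F.loc a ha).data hne h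
  refine ⟨by rw [F.conjQ a ha]; exact h1, ?_⟩
  intro x hx y hy hx1 hy1 hxy
  obtain ⟨k, -, hk⟩ := h2 x hx y hy hx1 hy1 hxy
  exact ⟨k, hk⟩

/-- `b ∈ Q a → a ∈ Q b`. -/
theorem mem_symm (F : Fam D Q u) {a b : G} (ha : a ∈ D) (hb : b ∈ D) (h : b ∈ Q a) : a ∈ Q b := by
  by_cases hne : b = a
  · rw [hne]; exact (F.loc a ha).z_mem
  · exact (F.main_pair ha hb hne h).1

theorem exists_swap (F : Fam D Q u) {a b : G} (ha : a ∈ D) (hb : b ∈ D) (h : b ∈ Q a) :
    ∃ g, g * a * g⁻¹ = b ∧ g * b * g⁻¹ = a := by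
  by_cases hne : b = a
  · exact ⟨1, by rw [hne]; group, by rw [hne]; group⟩
  · exact (F.main_pair ha hb hne h).2 b (Subgroup.subset_closure (by simp)) a
      (Subgroup.subset_closure (by simp)) (F.loc b hb).z_ne (F.loc a ha).z_ne hne

theorem mul_ne_one (F : Fam D Q u) {a b : G} (ha : a ∈ D) (hne : b ≠ a) : a * b ≠ 1 := by
  intro h
  apply hne
  calc b = a⁻¹ * (a * b) := by group
    _ = a := by rw [h, mul_one, (F.loc a ha).z_inv]

theorem exists_cycle (F : Fam D Q u) {a b : G} (ha : a ∈ D) (hb : b ∈ D) (hne : b ≠ a) (h : b ∈ Q a) :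
    ∃ g, g * a * g⁻¹ = b ∧ g * b * g⁻¹ = a * b ∧ g * (a * b) * g⁻¹ = a := by
  have la := F.loc a ha
  have lb := F.loc b hb
  have ha' : a ∈ Subgroup.closure ({a, b} : Set G) := Subgroup.subset_closure (by simp)
  have hb' : b ∈ Subgroup.closure ({a, b} : Set G) := Subgroup.subset_closure (by simp)
  have hba : b ≠ a * b := fun h1 => la.z_ne (mul_eq_right.1 h1.symm)
  obtain ⟨g, h1, h2⟩ := (F.main_pair ha hb hne h).2 b hb' (a * b) (Subgroup.mul_mem _ ha' hb') lb.z_ne
    (F.mul_ne_one ha hne) hba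
  refine ⟨g, h1, h2, ?_⟩
  calc g * (a * b) * g⁻¹ = (g * a * g⁻¹) * (g * b * g⁻¹) := by group
    _ = b * (a * b) := by rw [h1, h2]
    _ = (b * a) * b := by group
    _ = a * (b * b) := by rw [la.comm_z b h]; group
    _ = a := by rw [lb.z_sq, mul_one]

/-- (A/Q) For `b ∈ Q a`: `a`, `b`, `a * b` are pairwise members of each other's `Q`. -/
theorem mem_Q_mul (F : Fam D Q u) {a b : G} (ha : a ∈ D) (hb : b ∈ D) (hne : b ≠ a) (h : b ∈ Q a) :
    a * b ∈ D ∧ a ∈ Q (a * b) ∧ b ∈ Q (a * b) := by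
  obtain ⟨g, h1, h2, h3⟩ := F.exists_cycle ha hb hne h
  have h4 : a * b ∈ D := by rw [← h2]; exact F.conj_mem b hb g
  refine ⟨h4, ?_, ?_⟩
  · -- `b ∈ Q a`, conjugate by `g`: `a b ∈ Q b`; and by `g²`: `a ∈ Q (a b)`
    have h5 : a ∈ Q (g * b * g⁻¹) := by
      rw [F.mem_conjQ hb]
      have e : g⁻¹ * a * g = a * b := by
        calc g⁻¹ * a * g = g⁻¹ * (g * (a * b) * g⁻¹) * g := by rw [h3]
          _ = a * b := by group
      rw [e]
      exact Subgroup.mul_mem _ (F.mem_symm ha hb h) (F.loc b hb).z_mem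
    rwa [h2] at h5
  · have h5 : b ∈ Q (g * b * g⁻¹) := by
      rw [F.mem_conjQ hb]
      have e : g⁻¹ * b * g = a := by
        calc g⁻¹ * b * g = g⁻¹ * (g * a * g⁻¹) * g := by rw [h1]
          _ = a := by group
      rw [e]
      exact F.mem_symm ha hb h
    rwa [h2] at h5

end Fam

end Cfsg.Agent.ClassificationK.SymplSetup
end

-- part: ClassificationK/SymplSylow
section
/-!
# Sylow 2-subgroups containing `Q z` centralise `z` (S1758, helper577)
-/

set_option autoImplicit false

namespace Cfsg.Agent.ClassificationK.SymplSetup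

variable {G : Type*} [Group G]

/-- A 2-subgroup containing `Q` centralises `z`. -/
theorem Symp.centralizes [Finite G] {Q : Subgroup G} {z u : G} (h : Symp Q z u) {T : Subgroup G}
    (hT : IsPGroup 2 T) (hQT : Q ≤ T) {x : G} (hx : x ∈ T) : x * z = z * x := by
  classical
  have : Fact (Nat.Prime 2) := ⟨Nat.prime_two⟩
  have hnt : Nontrivial T := by
    refine ⟨⟨⟨z, hQT h.z_mem⟩, 1, ?_⟩⟩
    intro he
    exact h.z_ne (congrArg Subtype.val he)
  have hc : Nontrivial (Subgroup.center T) := hT.center_nontrivial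
  obtain ⟨⟨⟨c, hcT⟩, hcc⟩, hc1⟩ := exists_ne (1 : Subgroup.center T)
  have hc1' : c ≠ 1 := by
    rintro rfl
    exact hc1 rfl
  rw [Subgroup.mem_center_iff] at hcc
  have hcomm : ∀ y ∈ T, y * c = c * y := fun y hy => congrArg Subtype.val (hcc ⟨y, hy⟩)
  have h1 := h.self c (hcomm z (hQT h.z_mem)).symm (fun y hy => (hcomm y (hQT hy)).symm)
  have h2 := hcomm x hx
  rcases h1 with h1 | h1 | h1 | h1
  · exact absurd h1 hc1'
  · rwa [h1] at h2
  · rw [h1] at h2
    rw [← h.u_sq, ← mul_assoc, h2, mul_assoc, h2, mul_assoc]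
  · have h3 : c * c = z := by
      rw [h1]
      calc u * z * (u * z) = u * (z * u) * z := by group
        _ = (u * u) * (z * z) := by rw [← h.uz]; group
        _ = z := by rw [h.u_sq, h.z_sq, mul_one]
    rw [← h3, ← mul_assoc, h2, mul_assoc, h2, mul_assoc]

/-- For an involution `t` (or `1`) of `C(z)` there is a Sylow 2-subgroup of `G` containing `Q` and `t`. -/
theorem Symp.exists_sylow [Finite G] {Q : Subgroup G} {z u : G} (h : Symp Q z u) {K : Subgroup G}
    (hK : IsPGroup 2 K) (hKz : ∀ x ∈ K, x * z = z * x) :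
    ∃ T : Sylow 2 G, Q ≤ T ∧ K ≤ T ∧ ∀ x ∈ (T : Subgroup G), x * z = z * x := by
  classical
  have : Fact (Nat.Prime 2) := ⟨Nat.prime_two⟩
  have hn : K ≤ Subgroup.normalizer (Q : Set G) := by
    intro x hx
    rw [Subgroup.mem_normalizer_iff]
    intro y
    have hxz := hKz x hx
    constructor
    · exact h.conj_mem x hxz y
    · intro hy
      have hx' : x⁻¹ * z = z * x⁻¹ := by
        rw [inv_mul_eq_iff_eq_mul, ← mul_assoc, hxz, mul_assoc, mul_inv_cancel, mul_one]
      have := h.conj_mem x⁻¹ hx' _ hy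
      have e : x⁻¹ * (x * y * x⁻¹) * (x⁻¹)⁻¹ = y := by group
      rwa [e] at this
  have hp : IsPGroup 2 (K ⊔ Q : Subgroup G) :=
    IsPGroup.to_sup_of_normal_right' hK h.isPGroup hn
  obtain ⟨T, hT⟩ := hp.exists_le_sylow
  have h1 : Q ≤ T := le_sup_right.trans hT
  exact ⟨T, h1, le_sup_left.trans hT, fun x hx => h.centralizes T.2 h1 hx⟩

end Cfsg.Agent.ClassificationK.SymplSetup
end

private theorem dce_75389874e486 : _root_.True := by
  try have : _root_.True := by simp only [_root_.Cfsg.Agent.ClassificationK.SymplSetup.Symp.pr.eq_1]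
  try have : _root_.True := by simp only [_root_.Cfsg.Agent.ClassificationK.SymplSetup.Symp.val.eq_1]
  exact _root_.True.intro
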