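import Mathlib
import Cfsg.Prelude.Def_ClassificationK
import Cfsg.Agent.S0093
import Cfsg.Agent.S1755
import Cfsg.Agent.J2.ExtQuot
import Cfsg.Agent.ClassificationK.SymplSylow
import Cfsg.Agent.S1313
import Cfsg.Agent.S0215
import Cfsg.Agent.S1180
import Cfsg.Agent.FastGrp
import Cfsg.Agent.Prune
set_option linter.all false

section
prune_inst 0x7f00000000000000000000000000000000000000000000000000000000000000000000000000000000000000000000000000000000000000000000000000000000000000000000000000000000000000003fffffffffffffffffffffffffffbeffbdffffffff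

-- part: ClassificationK/SymplStructure
section
set_option linter.all false
open scoped Cfsg.Agent.FastGrp

-- part: ClassificationK/SymplDual
section
/-!
# Duality in groups with `[x, y] ∈ {1, ζ}` (S1758, helper577)

`exists_comm_iff`: in a finite group `K` with commutators in `{1, ζ}`, `ζ` a central involution, every homomorphism
`φ : K → ZMod 2` trivial on the centre is commutation with some element `k`: `φ x = 0 ↔ k * x = x * k`.
-/

set_option autoImplicit false

namespace Cfsg.Agent.ClassificationK.SymplDual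

variable {K : Type*} [Group K]

theorem z01 : ∀ a : ZMod 2, a = 0 ∨ a = 1 := by decide

theorem z11 : (1 : ZMod 2) + 1 = 0 := by decide

theorem exists_comm_iff [Finite K] {ζ : K} (hζ1 : ζ ≠ 1) (hζζ : ζ * ζ = 1) (hζc : ∀ x, x * ζ = ζ * x)
    (hcomm : ∀ x y : K, x * y = y * x ∨ x * y = y * x * ζ) (φ : K → ZMod 2)
    (hφ : ∀ x y, φ (x * y) = φ x + φ y) (hφc : ∀ x ∈ Subgroup.center K, φ x = 0) :
    ∃ k : K, ∀ x, φ x = 0 ↔ k * x = x * k := by
  classical
  have : Fact (Nat.Prime 2) := ⟨Nat.prime_two⟩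
  have hne : ∀ g : K, g ≠ g * ζ := fun g h => hζ1 (mul_eq_left.1 h.symm)
  -- the pairing
  let β : K → K → ZMod 2 := fun x y => if x * y = y * x then 0 else 1
  have β0 : ∀ x y, β x y = 0 ↔ x * y = y * x := by
    intro x y
    show (if x * y = y * x then (0 : ZMod 2) else 1) = 0 ↔ _
    split_ifs with h
    · exact ⟨fun _ => h, fun _ => rfl⟩
    · exact ⟨fun h1 => absurd h1 one_ne_zero, fun h1 => absurd h1 h⟩
  have β1 : ∀ x y, β x y = 1 ↔ x * y = y * x * ζ := by
    intro x y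
    constructor
    · intro h1
      rcases hcomm x y with h2 | h2
      · rw [(β0 x y).2 h2] at h1; exact absurd h1 zero_ne_one
      · exact h2
    · intro h1
      rcases z01 (β x y) with h2 | h2
      · rw [β0] at h2; rw [h2] at h1; exact absurd h1 (hne _)
      · exact h2
  have βsymm : ∀ x y, β x y = β y x := by
    intro x y
    rcases z01 (β x y) with h | h
    · rw [h]; rw [β0] at h; exact ((β0 y x).2 h.symm).symm
    · rcases z01 (β y x) with h' | h'
      · rw [β0] at h'; rw [(β0 x y).2 h'.symm] at h; exact absurd h zero_ne_one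
      · rw [h, h']
  have βmul : ∀ x x' y, β (x * x') y = β x y + β x' y := by
    intro x x' y
    rcases hcomm x y with h1 | h1 <;> rcases hcomm x' y with h2 | h2
    · rw [(β0 x y).2 h1, (β0 x' y).2 h2, (β0 _ y).2]; · rfl
      rw [mul_assoc, h2, ← mul_assoc, h1, mul_assoc]
    · rw [(β0 x y).2 h1, (β1 x' y).2 h2, (β1 _ y).2]; · rw [zero_add]
      rw [mul_assoc, h2, ← mul_assoc, ← mul_assoc, h1, ← mul_assoc]
    · rw [(β1 x y).2 h1, (β0 x' y).2 h2, (β1 _ y).2]; · rw [add_zero]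
      rw [mul_assoc, h2, ← mul_assoc, h1, mul_assoc (y * x) ζ, ← hζc]
      simp only [mul_assoc]
    · rw [(β1 x y).2 h1, (β1 x' y).2 h2, (β0 _ y).2]; · exact z11.symm
      rw [mul_assoc, h2]
      calc x * (y * x' * ζ) = (x * y) * x' * ζ := by group
        _ = y * x * (ζ * x') * ζ := by rw [h1]; group
        _ = y * x * x' * (ζ * ζ) := by rw [← hζc]; group
        _ = y * (x * x') := by rw [hζζ]; group
  have βcen : ∀ x x' y, x⁻¹ * x' ∈ Subgroup.center K → β x y = β x' y := by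
    intro x x' y h
    have h1 : x' = x * (x⁻¹ * x') := by group
    rw [h1, βmul, (β0 (x⁻¹ * x') y).2 ((Subgroup.mem_center_iff.1 h y).symm), add_zero]
  -- the space
  let A := K ⧸ Subgroup.center K
  have hsq : ∀ x : K, x * x ∈ Subgroup.center K := by
    intro x
    rw [Subgroup.mem_center_iff]
    intro y
    rw [eq_comm, ← β0, βmul]
    rcases z01 (β x y) with h | h <;> rw [h]
    · rfl
    · exact z11
  have hcc : ∀ x y : K, (x * y)⁻¹ * (y * x) ∈ Subgroup.center K := by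
    intro x y
    rcases hcomm y x with h | h
    · rw [h, inv_mul_cancel]; exact Subgroup.one_mem _
    · rw [h, ← mul_assoc, inv_mul_cancel, one_mul, Subgroup.mem_center_iff]
      exact hζc
  let inst1 : AddCommGroup (Additive A) :=
    { (inferInstance : AddGroup (Additive A)) with
      add_comm := by
        intro a b
        obtain ⟨x, hx⟩ := QuotientGroup.mk_surjective (Additive.toMul a)
        obtain ⟨y, hy⟩ := QuotientGroup.mk_surjective (Additive.toMul b)
        have ha : a = Additive.ofMul (x : A) := by rw [hx]; rfl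
        have hb : b = Additive.ofMul (y : A) := by rw [hy]; rfl
        rw [ha, hb]
        exact congrArg Additive.ofMul (QuotientGroup.eq.2 (hcc x y)) }
  let pr : K → Additive A := fun x => Additive.ofMul (x : A)
  have prmul : ∀ x y, pr (x * y) = pr x + pr y := fun x y => rfl
  have prsurj : ∀ v, ∃ x, pr x = v := by
    intro v
    obtain ⟨x, hx⟩ := QuotientGroup.mk_surjective (Additive.toMul v)
    exact ⟨x, by show Additive.ofMul (x : A) = v; rw [hx]; rfl⟩
  have prself : ∀ v : Additive A, v + v = 0 := by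
    intro v
    obtain ⟨x, rfl⟩ := prsurj v
    rw [← prmul]
    show Additive.ofMul ((x * x : K) : A) = Additive.ofMul 1
    rw [(QuotientGroup.eq_one_iff (x * x)).2 (hsq x)]
  let inst2 : Module (ZMod 2) (Additive A) :=
    AddCommGroup.zmodModule (n := 2) (by intro x; rw [two_nsmul]; exact prself x)
  choose s hs using prsurj
  have hsc : ∀ x, (s (pr x))⁻¹ * x ∈ Subgroup.center K := by
    intro x
    have h1 : (Additive.ofMul ((s (pr x) : K) : A)) = Additive.ofMul (x : A) := hs (pr x)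
    exact QuotientGroup.eq.1 (Additive.ofMul.injective h1)
  have βs : ∀ x y, β (s (pr x)) (s (pr y)) = β x y := by
    intro x y
    rw [βcen _ x _ (hsc x), βsymm, βcen _ y _ (hsc y), βsymm]
  let b : Additive A →ₗ[ZMod 2] (Additive A →ₗ[ZMod 2] ZMod 2) :=
    AddMonoidHom.toZModLinearMap 2
      { toFun := fun v => AddMonoidHom.toZModLinearMap 2
          { toFun := fun w => β (s v) (s w)
            map_zero' := by
              have h1 : (0 : Additive A) = pr 1 := rfl
              obtain ⟨x, rfl⟩ := (⟨s v, hs v⟩ : ∃ x, pr x = v)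
              rw [h1, βs, β0, mul_one, one_mul]
            map_add' := by
              intro w w'
              obtain ⟨x, rfl⟩ := (⟨s v, hs v⟩ : ∃ x, pr x = v)
              obtain ⟨y, rfl⟩ := (⟨s w, hs w⟩ : ∃ x, pr x = w)
              obtain ⟨y', rfl⟩ := (⟨s w', hs w'⟩ : ∃ x, pr x = w')
              rw [← prmul, βs, βs, βs, βsymm, βmul, βsymm, βsymm y'] }
        map_zero' := by
          ext w
          show β (s 0) (s w) = 0
          have h1 : (0 : Additive A) = pr 1 := rfl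
          obtain ⟨x, rfl⟩ := (⟨s w, hs w⟩ : ∃ x, pr x = w)
          rw [h1, βs, β0, mul_one, one_mul]
        map_add' := by
          intro v v'
          ext w
          show β (s (v + v')) (s w) = β (s v) (s w) + β (s v') (s w)
          obtain ⟨x, rfl⟩ := (⟨s v, hs v⟩ : ∃ x, pr x = v)
          obtain ⟨x', rfl⟩ := (⟨s v', hs v'⟩ : ∃ x, pr x = v')
          obtain ⟨y, rfl⟩ := (⟨s w, hs w⟩ : ∃ x, pr x = w)
          rw [← prmul, βs, βs, βs, βmul] }
  have hb : ∀ x y, b (pr x) (pr y) = β x y := fun x y => βs x y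
  have hfin : Finite (Additive A) := inferInstanceAs (Finite (K ⧸ Subgroup.center K))
  have hMF : Module.Finite (ZMod 2) (Additive A) := Module.Finite.of_finite
  have hinj : Function.Injective b := by
    rw [← LinearMap.ker_eq_bot, LinearMap.ker_eq_bot']
    intro v hv
    obtain ⟨x, rfl⟩ := (⟨s v, hs v⟩ : ∃ x, pr x = v)
    show Additive.ofMul (x : A) = Additive.ofMul 1
    rw [(QuotientGroup.eq_one_iff x).2]
    rw [Subgroup.mem_center_iff]
    intro y
    rw [eq_comm, ← β0, ← hb, hv]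
    rfl
  have hsurj : Function.Surjective b :=
    (LinearMap.injective_iff_surjective_of_finrank_eq_finrank
      (Subspace.dual_finrank_eq (K := ZMod 2) (V := Additive A)).symm).1 hinj
  have hφcong : ∀ x y : K, x⁻¹ * y ∈ Subgroup.center K → φ x = φ y := by
    intro x y h
    have h1 : y = x * (x⁻¹ * y) := by group
    rw [h1, hφ, hφc _ h, add_zero]
  let f : Additive A →ₗ[ZMod 2] ZMod 2 := AddMonoidHom.toZModLinearMap 2
    { toFun := fun v => φ (s v)
      map_zero' := by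
        have h1 : (0 : Additive A) = pr 1 := rfl
        rw [h1, hφcong _ _ (hsc 1)]
        exact hφc 1 (Subgroup.one_mem _)
      map_add' := by
        intro v w
        obtain ⟨x, rfl⟩ := (⟨s v, hs v⟩ : ∃ x, pr x = v)
        obtain ⟨y, rfl⟩ := (⟨s w, hs w⟩ : ∃ x, pr x = w)
        rw [← prmul, hφcong _ _ (hsc (x * y)), hφcong _ _ (hsc x), hφcong _ _ (hsc y), hφ] }
  obtain ⟨v, hv⟩ := hsurj f
  obtain ⟨k, rfl⟩ := (⟨s v, hs v⟩ : ∃ x, pr x = v)
  refine ⟨k, fun x => ?_⟩
  have h1 : b (pr k) (pr x) = f (pr x) := by rw [hv]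
  have h2 : f (pr x) = φ x := hφcong _ _ (hsc x)
  rw [hb, h2] at h1
  rw [← h1, β0]

end Cfsg.Agent.ClassificationK.SymplDual
end

-- part: ClassificationK/SymplStructure
section
/-!
# Finite 2-groups of symplectic type (S1758, helper577)

`exists_KR`: a 2-group `Q` of symplectic type with a central involution `z` has characteristic subgroups `R ≤ K`,
`R` cyclic, `R = C_Q(K)`, `K = C_Q(R)`, `K / R` elementary abelian, `[K, K] ≤ ⟨z⟩` (`KR`).
`KR.sqR`: if `|R| ≥ 4`, then `x ∈ K → x² = r²` for some `r ∈ R`.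
-/

set_option autoImplicit false

namespace Cfsg.Agent.ClassificationK.SymplStructure

open Subgroup
open scoped commutatorElement

/-- The two characteristic subgroups of a 2-group of symplectic type. -/
structure KR {Q : Type*} [Group Q] (K R : Subgroup Q) (z : Q) : Prop where
  charK : K.Characteristic
  charR : R.Characteristic
  cyc : IsCyclic R
  le : R ≤ K
  zR : z ∈ R
  uniq : ∀ x ∈ R, x * x = 1 → x = 1 ∨ x = z
  cent : ∀ x, (∀ y ∈ K, y * x = x * y) → x ∈ R
  mem_K : ∀ x, x ∈ K ↔ ∀ y ∈ R, y * x = x * y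
  sq : ∀ x ∈ K, x * x ∈ R
  comm : ∀ x ∈ K, ∀ y ∈ K, x * y = y * x ∨ x * y = y * x * z
  comm' : ∀ y : Q, ∀ x ∈ K, ⁅y, x⁆ ∈ R

theorem exists_KR {Q : Type*} [Group Q] [Finite Q] (hQ : Cfsg.IsOfSymplecticType Q) {z : Q}
    (hz : orderOf z = 2) (hzc : z ∈ center Q) : ∃ K R : Subgroup Q, KR K R z := by
  have : Fact (Nat.Prime 2) := ⟨Nat.prime_two⟩
  obtain ⟨H, hHc, hfr, hcm, hCH⟩ := Cfsg.Agent.S0093.aux (p := 2) hQ.1
  have hHn : H.Normal := inferInstance
  set Z := centralizer (H : Set Q) with hZ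
  have hZc : Z.Characteristic := inferInstance
  have hZn : Z.Normal := inferInstance
  have hZcomm : ∀ a ∈ Z, ∀ h ∈ H, h * a = a * h := fun a ha h hh =>
    mem_centralizer_iff.mp ha h hh
  have hZab : IsMulCommutative Z := ⟨⟨fun a b => Subtype.ext (hZcomm b b.2 a (hCH a.2))⟩⟩
  have hZcyc : IsCyclic Z := hQ.2 Z hZc hZab
  have hsq : ∀ h ∈ H, h ^ 2 ∈ Z := by
    intro h hh
    apply hfr
    exact ⟨⟨h, hh⟩ ^ 2, Cfsg.Agent.Lib.FrattiniPGroup.pow_mem_frattini (hQ.1.to_subgroup H) _, rfl⟩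
  have hcomm : ∀ h ∈ H, ∀ y, ⁅h, y⁆ ∈ Z := fun h hh y =>
    (hcm (commutator_mem_commutator hh (mem_top y))).2
  -- involutions of `Z` are central in `Q`
  have hinv : ∀ a ∈ Z, a ^ 2 = 1 → a ∈ center Q := by
    intro a ha ha2
    by_cases h1 : a = 1
    · rw [h1]; exact one_mem _
    have hao : orderOf a = 2 := orderOf_eq_prime ha2 h1
    rw [mem_center_iff]
    intro g
    have h3 : g * a * g⁻¹ ∈ Z := hZn.conj_mem a ha g
    have h5 : orderOf (g * a * g⁻¹) = 2 := by
      have := orderOf_injective (MulAut.conj g).toMonoidHom (MulAut.conj g).injective a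
      simpa [hao] using this
    have h6 := Cfsg.Agent.S1755.eq_of_orderOf_two_mem hZcyc h3 ha h5 hao
    calc g * a = g * a * g⁻¹ * g := by group
      _ = a * g := by rw [h6]
  set Q0 := centralizer (Z : Set Q) with hQ0
  have hQ0n : Q0.Normal := inferInstance
  have hQ0c : ∀ x ∈ Q0, ∀ a ∈ Z, a * x = x * a := fun x hx a ha =>
    mem_centralizer_iff.mp hx a ha
  -- general computation
  have key : ∀ u v : Q, Commute ⁅u, v⁆ u → Commute (u ^ 2) v → ⁅u, v⁆ ^ 2 = 1 := by
    intro u v h1 h2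
    have h3 : u * v * u⁻¹ = ⁅u, v⁆ * v := by rw [commutatorElement_def]; group
    have h5 : u ^ 2 * v * (u ^ 2)⁻¹ = ⁅u, v⁆ ^ 2 * v := by
      calc u ^ 2 * v * (u ^ 2)⁻¹ = u * (u * v * u⁻¹) * u⁻¹ := by simp only [pow_two]; group
        _ = u * ⁅u, v⁆ * (v * u⁻¹) := by rw [h3]; group
        _ = ⁅u, v⁆ * (u * v * u⁻¹) := by rw [← h1.eq]; group
        _ = ⁅u, v⁆ ^ 2 * v := by rw [h3, pow_two]; group
    have h6 : u ^ 2 * v * (u ^ 2)⁻¹ = v := by rw [h2.eq]; group
    rw [h6] at h5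
    exact (mul_eq_right.mp h5.symm)
  have key' : ∀ u v : Q, ⁅u, v⁆ ∈ center Q → ⁅u, v⁆ ^ 2 = 1 → Commute (u ^ 2) v := by
    intro u v h1 h2
    have h3 : u * v * u⁻¹ = ⁅u, v⁆ * v := by rw [commutatorElement_def]; group
    have h4 : Commute ⁅u, v⁆ u := (mem_center_iff.mp h1 u).symm
    have h5 : u ^ 2 * v * (u ^ 2)⁻¹ = ⁅u, v⁆ ^ 2 * v := by
      calc u ^ 2 * v * (u ^ 2)⁻¹ = u * (u * v * u⁻¹) * u⁻¹ := by simp only [pow_two]; group
        _ = u * ⁅u, v⁆ * (v * u⁻¹) := by rw [h3]; group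
        _ = ⁅u, v⁆ * (u * v * u⁻¹) := by rw [← h4.eq]; group
        _ = ⁅u, v⁆ ^ 2 * v := by rw [h3, pow_two]; group
    rw [h2, one_mul] at h5
    show u ^ 2 * v = v * u ^ 2
    exact mul_inv_eq_iff_eq_mul.mp h5
  -- step 1
  have step1 : ∀ h ∈ H, ∀ x ∈ Q0, ⁅h, x⁆ ∈ Z ∧ ⁅h, x⁆ ^ 2 = 1 := by
    intro h hh x hx
    have h1 := hcomm h hh x
    exact ⟨h1, key h x (hZcomm _ h1 h hh).symm (hQ0c x hx _ (hsq h hh))⟩
  -- step 2
  have step2 : ∀ x ∈ Q0, x ^ 2 ∈ Z := by
    intro x hx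
    rw [hZ, mem_centralizer_iff]
    intro h hh
    obtain ⟨h1, h2⟩ := step1 h hh x hx
    have h3 : ⁅x, h⁆ = ⁅h, x⁆⁻¹ := (commutatorElement_inv h x).symm
    have h5 : ⁅x, h⁆ ∈ center Q := by rw [h3]; exact inv_mem (hinv _ h1 h2)
    have h6 : ⁅x, h⁆ ^ 2 = 1 := by rw [h3, inv_pow, h2, inv_one]
    exact (key' x h h5 h6).eq.symm
  -- step 3
  have step3 : ∀ x ∈ Q0, ∀ y ∈ Q0, ⁅x, y⁆ ∈ Z := by
    have h1 : ⁅⁅Q0, H⁆, Q0⁆ = ⊥ := by
      rw [eq_bot_iff, commutator_le]
      intro a ha b hb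
      have ha' : a ∈ Z := by
        have : ⁅Q0, H⁆ ≤ Z := by
          rw [commutator_le]
          intro c _ d hd
          rw [← commutatorElement_inv]
          exact inv_mem (hcomm d hd c)
        exact this ha
      rw [mem_bot, commutatorElement_eq_one_iff_mul_comm]
      exact hQ0c b hb a ha'
    have h2 : ⁅⁅H, Q0⁆, Q0⁆ = ⊥ := by rw [commutator_comm H Q0]; exact h1
    have h3 : ⁅⁅Q0, Q0⁆, H⁆ = ⊥ := commutator_commutator_eq_bot_of_rotate h1 h2
    intro x hx y hy
    rw [hZ, mem_centralizer_iff]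
    intro h hh
    have h5 : ⁅⁅x, y⁆, h⁆ ∈ ⁅⁅Q0, Q0⁆, H⁆ :=
      commutator_mem_commutator (commutator_mem_commutator hx hy) hh
    rw [h3, mem_bot, commutatorElement_eq_one_iff_mul_comm] at h5
    exact h5.symm
  -- step 5
  have step5 : ∀ y : Q, ∀ h ∈ Q0, ⁅y, h⁆ ∈ Z := by
    intro y h hh
    have h1 : ∀ k ∈ H, (y * h * y⁻¹) * k * (y * h * y⁻¹)⁻¹ = h * k * h⁻¹ := by
      intro k hk
      obtain ⟨h1, h2⟩ := step1 k hk h hh
      have h3 : ⁅h, k⁆ = ⁅k, h⁆⁻¹ := (commutatorElement_inv k h).symm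
      have h5 : ⁅h, k⁆ ∈ center Q := by rw [h3]; exact inv_mem (hinv _ h1 h2)
      have h6 : ⁅k⁻¹, y⁻¹⁆ ∈ Z := hcomm _ (inv_mem hk) _
      have h7 : y⁻¹ * k * y = k * ⁅k⁻¹, y⁻¹⁆ := by rw [commutatorElement_def]; group
      have h8 : h * k * h⁻¹ = ⁅h, k⁆ * k := by rw [commutatorElement_def]; group
      have h9 : ⁅k⁻¹, y⁻¹⁆ * h = h * ⁅k⁻¹, y⁻¹⁆ := hQ0c h hh _ h6
      calc (y * h * y⁻¹) * k * (y * h * y⁻¹)⁻¹
          = y * h * (y⁻¹ * k * y) * h⁻¹ * y⁻¹ := by group
        _ = y * (h * k * ⁅k⁻¹, y⁻¹⁆ * h⁻¹) * y⁻¹ := by rw [h7]; group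
        _ = y * (h * k * (⁅k⁻¹, y⁻¹⁆ * h) * h⁻¹ * h⁻¹) * y⁻¹ := by group
        _ = y * (h * k * (h * ⁅k⁻¹, y⁻¹⁆) * h⁻¹ * h⁻¹) * y⁻¹ := by rw [h9]
        _ = y * (h * k * h⁻¹) * ⁅k⁻¹, y⁻¹⁆ * y⁻¹ := by
              have h10 : h * ⁅k⁻¹, y⁻¹⁆ * h⁻¹ = ⁅k⁻¹, y⁻¹⁆ := by rw [← h9]; group
              have h11 : h⁻¹ * ⁅k⁻¹, y⁻¹⁆ * h = ⁅k⁻¹, y⁻¹⁆ := by rw [mul_assoc, h9]; group
              have h12 : ⁅k⁻¹, y⁻¹⁆ * h⁻¹ = h⁻¹ * ⁅k⁻¹, y⁻¹⁆ := by
                rw [eq_comm, ← mul_inv_eq_iff_eq_mul]; simpa using h11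
              rw [show h * k * (h * ⁅k⁻¹, y⁻¹⁆) * h⁻¹ * h⁻¹
                = h * k * (h * ⁅k⁻¹, y⁻¹⁆ * h⁻¹) * h⁻¹ by group, h10,
                show h * k * ⁅k⁻¹, y⁻¹⁆ * h⁻¹ = h * k * (⁅k⁻¹, y⁻¹⁆ * h⁻¹) by group, h12]
              group
        _ = y * ⁅h, k⁆ * (k * ⁅k⁻¹, y⁻¹⁆) * y⁻¹ := by rw [h8]; group
        _ = y * ⁅h, k⁆ * (y⁻¹ * k * y) * y⁻¹ := by rw [h7]
        _ = y * ⁅h, k⁆ * y⁻¹ * k := by group
        _ = ⁅h, k⁆ * k := by rw [mem_center_iff.mp h5 y]; group
        _ = h * k * h⁻¹ := h8.symm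
    have h2 : h⁻¹ * (y * h * y⁻¹) ∈ Z := by
      rw [hZ, mem_centralizer_iff]
      intro k hk
      have h3 := h1 k hk
      have h5 : (h⁻¹ * (y * h * y⁻¹)) * k * (h⁻¹ * (y * h * y⁻¹))⁻¹ = k := by
        calc (h⁻¹ * (y * h * y⁻¹)) * k * (h⁻¹ * (y * h * y⁻¹))⁻¹
            = h⁻¹ * ((y * h * y⁻¹) * k * (y * h * y⁻¹)⁻¹) * h := by group
          _ = k := by rw [h3]; group
      exact (mul_inv_eq_iff_eq_mul.mp h5).symm
    have h3 : ⁅y, h⁆ = h * (h⁻¹ * (y * h * y⁻¹)) * h⁻¹ := by rw [commutatorElement_def]; group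
    rw [h3]
    exact hZn.conj_mem _ h2 h
  have hHQ0 : H ≤ Q0 := by
    intro h hh
    rw [hQ0, mem_centralizer_iff]
    intro a ha
    exact (hZcomm a ha h hh).symm
  have hzZ : z ∈ Z := by
    rw [hZ, mem_centralizer_iff]
    intro h _
    exact mem_center_iff.1 hzc h
  have huniq : ∀ x ∈ Z, x * x = 1 → x = 1 ∨ x = z := by
    intro x hx hxx
    by_cases h1 : x = 1
    · exact Or.inl h1
    · exact Or.inr (Cfsg.Agent.S1755.eq_of_orderOf_two_mem hZcyc hx hzZ
        (orderOf_eq_prime (by rw [pow_two]; exact hxx) h1) hz)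
  refine ⟨Q0, Z, ⟨inferInstance, hZc, hZcyc, ?_, hzZ, huniq, ?_, ?_, ?_, ?_, step5⟩⟩
  · intro a ha
    exact hHQ0 (hCH ha)
  · intro x hx
    rw [hZ, mem_centralizer_iff]
    intro h hh
    exact hx h (hHQ0 hh)
  · intro x
    rw [hQ0, mem_centralizer_iff]
    rfl
  · intro x hx
    rw [← pow_two]; exact step2 x hx
  · intro x hx y hy
    have h1 := step3 y hy x hx
    have h2 : ⁅y, x⁆ ^ 2 = 1 := by
      apply key y x
      · exact hQ0c y hy _ h1
      · exact hQ0c x hx _ (step2 y hy)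
    have h3 : ⁅x, y⁆ = ⁅y, x⁆⁻¹ := (commutatorElement_inv y x).symm
    have h4 : x * y = ⁅x, y⁆ * (y * x) := by rw [commutatorElement_def]; group
    have hzyx : z * (y * x) = y * x * z := (mem_center_iff.1 hzc (y * x)).symm
    rcases huniq _ h1 (by rw [← pow_two]; exact h2) with h5 | h5
    · left; rw [h4, h3, h5]; group
    · right
      have hzi : z⁻¹ = z := by
        rw [inv_eq_iff_mul_eq_one, ← pow_two, ← hz]; exact pow_orderOf_eq_one z
      rw [h4, h3, h5, hzi, hzyx]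

/-- Squares in a cyclic group of even order. -/
theorem cyclic_square {Q : Type*} [Group Q] {R : Subgroup Q} {c : Q}
    (hgen : ∀ x ∈ R, ∃ i : ℤ, c ^ i = x) (hc : c ∈ R) (h2 : 2 ∣ orderOf c) (i : ℤ) :
    (∃ r ∈ R, c ^ i = r * r) ↔ Even i := by
  constructor
  · rintro ⟨r, hr, h⟩
    obtain ⟨j, rfl⟩ := hgen r hr
    rw [← zpow_add] at h
    have h3 : c ^ (i - (j + j)) = 1 := by rw [zpow_sub, h, mul_inv_cancel]
    rw [← orderOf_dvd_iff_zpow_eq_one] at h3
    have h4 : (2 : ℤ) ∣ i - (j + j) := (by exact_mod_cast h2 : (2 : ℤ) ∣ (orderOf c : ℤ)).trans h3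
    rw [even_iff_two_dvd]
    omega
  · rintro ⟨j, rfl⟩
    exact ⟨c ^ j, R.zpow_mem hc j, zpow_add c j j⟩

namespace KR

variable {Q : Type*} [Group Q] {K R : Subgroup Q} {z : Q}

theorem exists_gen (h : KR K R z) : ∃ c ∈ R, ∀ x ∈ R, ∃ i : ℤ, c ^ i = x := by
  obtain ⟨⟨c, hc⟩, hgen⟩ := h.cyc.exists_generator
  refine ⟨c, hc, fun a ha => ?_⟩
  obtain ⟨k, hk⟩ := mem_zpowers_iff.mp (hgen ⟨a, ha⟩)
  exact ⟨k, congrArg Subtype.val hk⟩

theorem zz (_h : KR K R z) (hz : orderOf z = 2) : z * z = 1 := by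
  rw [← pow_two, ← hz]; exact pow_orderOf_eq_one z

/-- If `|R| ≥ 4`, then for `x ∈ K` there is `r ∈ R` with `x² = r²`. -/
theorem sqR [Finite Q] (h : KR K R z) (hQ : Cfsg.IsOfSymplecticType Q) (hz : orderOf z = 2)
    (hzc : z ∈ center Q) (hR : 4 ≤ Nat.card R) {x : Q} (hx : x ∈ K) : ∃ r ∈ R, x * x = r * r := by
  classical
  have : Fact (Nat.Prime 2) := ⟨Nat.prime_two⟩
  obtain ⟨c, hc, hgen⟩ := h.exists_gen
  have hz1 : z ≠ 1 := by
    intro h1; rw [h1, orderOf_one] at hz; exact absurd hz (by norm_num)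
  -- the order of `c`
  have hRz : R = zpowers c := by
    apply le_antisymm
    · intro y hy
      obtain ⟨i, hi⟩ := hgen y hy
      exact ⟨i, hi⟩
    · rw [zpowers_le]; exact hc
  obtain ⟨n, hn⟩ := (IsPGroup.iff_orderOf.1 hQ.1) c
  have hcard : Nat.card R = 2 ^ n := by rw [hRz, Nat.card_zpowers, hn]
  have hn2 : 2 ≤ n := by
    by_contra hlt
    have : n = 0 ∨ n = 1 := by omega
    rcases this with rfl | rfl
    · rw [hcard] at hR; norm_num at hR
    · rw [hcard] at hR; norm_num at hR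
  have h2c : 2 ∣ orderOf c := by rw [hn]; exact dvd_pow_self 2 (by omega)
  have hS2 := cyclic_square hgen hc h2c
  let S2 : Q → Prop := fun a => ∃ r ∈ R, a = r * r
  have hS2i : ∀ i : ℤ, S2 (c ^ i) ↔ Even i := hS2
  -- parity of products
  have hprod : ∀ a ∈ R, ∀ b ∈ R, S2 (a * b) ↔ (S2 a ↔ S2 b) := by
    intro a ha b hb
    obtain ⟨i, rfl⟩ := hgen a ha
    obtain ⟨j, rfl⟩ := hgen b hb
    rw [← zpow_add, hS2i, hS2i, hS2i, Int.even_add]
  -- `z` is a square
  have hzS : S2 z := by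
    have h1 : c ^ (2 ^ (n - 1) : ℕ) = z := by
      have h2 : (c ^ (2 ^ (n - 1) : ℕ)) * (c ^ (2 ^ (n - 1) : ℕ)) = 1 := by
        rw [← pow_add, ← two_mul, ← pow_succ', Nat.sub_add_cancel (by omega), ← hn]
        exact pow_orderOf_eq_one c
      rcases h.uniq _ (R.pow_mem hc _) h2 with h3 | h3
      · exfalso
        have h4 := orderOf_dvd_of_pow_eq_one h3
        rw [hn] at h4
        have := Nat.le_of_dvd (by positivity) h4
        have h5 : 2 ^ (n - 1) < 2 ^ n := Nat.pow_lt_pow_right (by norm_num) (by omega)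
        omega
      · exact h3
    have h2 : S2 (c ^ ((2 ^ (n - 1) : ℕ) : ℤ)) := by
      rw [hS2i]
      have : Even (2 ^ (n - 1)) := by
        rw [Nat.even_pow]; exact ⟨even_two, by omega⟩
      exact_mod_cast this
    rw [zpow_natCast, h1] at h2
    exact h2
  have hzcomm : ∀ y, y * z = z * y := fun y => mem_center_iff.1 hzc y
  -- the homomorphism
  let φ : K → ZMod 2 := fun x => if S2 ((x : Q) * x) then 0 else 1
  have hφ0 : ∀ x : K, φ x = 0 ↔ S2 ((x : Q) * x) := by
    intro x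
    show (if S2 ((x : Q) * x) then (0 : ZMod 2) else 1) = 0 ↔ _
    split_ifs with h1
    · exact ⟨fun _ => h1, fun _ => rfl⟩
    · exact ⟨fun h2 => absurd h2 one_ne_zero, fun h2 => absurd h2 h1⟩
  have hφ1 : ∀ x : K, φ x = 1 ↔ ¬ S2 ((x : Q) * x) := by
    intro x
    rw [← hφ0]
    rcases SymplDual.z01 (φ x) with h1 | h1 <;> rw [h1]
    · simp
    · simp
  have hsqmul : ∀ x y : K, S2 (((x * y : K) : Q) * (x * y : K)) ↔ S2 (((x : Q) * x) * (y * y)) := by
    intro x y
    have hxx := h.sq x x.2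
    have hyy := h.sq y y.2
    rcases h.comm y y.2 x x.2 with h1 | h1
    · have e : ((x * y : K) : Q) * (x * y : K) = ((x : Q) * x) * (y * y) := by
        show (x : Q) * y * (x * y) = _
        calc (x : Q) * y * (x * y) = x * (y * x) * y := by group
          _ = _ := by rw [h1]; group
      rw [e]
    · have e : ((x * y : K) : Q) * (x * y : K) = ((x : Q) * x) * (y * y) * z := by
        show (x : Q) * y * (x * y) = _
        calc (x : Q) * y * (x * y) = x * (y * x) * y := by group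
          _ = x * x * y * (z * y) := by rw [h1]; group
          _ = _ := by rw [← hzcomm]; group
      rw [e, hprod _ (R.mul_mem hxx hyy) _ h.zR]
      exact ⟨fun h2 => h2.2 hzS, fun h2 => ⟨fun _ => hzS, fun _ => h2⟩⟩
  have hφmul : ∀ x y : K, φ (x * y) = φ x + φ y := by
    intro x y
    have h1 := (hsqmul x y).trans (hprod _ (h.sq x x.2) _ (h.sq y y.2))
    rcases SymplDual.z01 (φ x) with h2 | h2 <;> rcases SymplDual.z01 (φ y) with h3 | h3
    · rw [h2, h3, add_zero, hφ0, h1, ← hφ0, ← hφ0, h2, h3]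
    · rw [h2, h3, zero_add, hφ1, h1, ← hφ0, ← hφ0, h2, h3]; simp
    · rw [h2, h3, add_zero, hφ1, h1, ← hφ0, ← hφ0, h2, h3]; simp
    · rw [h2, h3, SymplDual.z11, hφ0, h1, ← hφ0, ← hφ0, h2, h3]
  have hφc : ∀ x ∈ center K, φ x = 0 := by
    intro x hx
    rw [hφ0]
    refine ⟨x, h.cent x fun y hy => ?_, rfl⟩
    exact congrArg Subtype.val (mem_center_iff.1 hx ⟨y, hy⟩)
  obtain ⟨k, hk⟩ := SymplDual.exists_comm_iff (K := K) (ζ := ⟨z, h.le h.zR⟩)
    (fun h1 => hz1 (congrArg Subtype.val h1)) (Subtype.ext (h.zz hz))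
    (fun x => Subtype.ext (hzcomm x))
    (fun x y => by
      rcases h.comm x x.2 y y.2 with h1 | h1
      · exact Or.inl (Subtype.ext h1)
      · exact Or.inr (Subtype.ext h1)) φ hφmul hφc
  by_contra hcon
  have hx1 : φ ⟨x, hx⟩ = 1 := (hφ1 _).2 hcon
  have hkR : (k : Q) ∉ R := by
    intro h1
    have h2 := (hk ⟨x, hx⟩).2 (Subtype.ext ((h.mem_K x).1 hx k h1))
    rw [h2] at hx1; exact zero_ne_one hx1
  have hkk : S2 ((k : Q) * k) := (hφ0 k).1 ((hk k).2 rfl)
  -- the characteristic abelian subgroup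
  have hS2mul : ∀ x ∈ K, ∀ y ∈ K, S2 (x * x) → S2 (y * y) → S2 ((x * y) * (x * y)) := by
    intro x hx y hy h1 h2
    exact (hsqmul ⟨x, hx⟩ ⟨y, hy⟩).2 ((hprod _ (h.sq x hx) _ (h.sq y hy)).2 ⟨fun _ => h2, fun _ => h1⟩)
  let A : Subgroup Q :=
    { carrier := {a | a ∈ K ∧ S2 (a * a) ∧ ∀ y ∈ K, S2 (y * y) → a * y = y * a}
      one_mem' := ⟨K.one_mem, ⟨1, R.one_mem, rfl⟩, fun y _ _ => by rw [one_mul, mul_one]⟩
      mul_mem' := by
        rintro a b ⟨ha1, ha2, ha3⟩ ⟨hb1, hb2, hb3⟩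
        refine ⟨K.mul_mem ha1 hb1, hS2mul a ha1 b hb1 ha2 hb2, fun y hy hyy => ?_⟩
        rw [mul_assoc, hb3 y hy hyy, ← mul_assoc, ha3 y hy hyy, mul_assoc]
      inv_mem' := by
        rintro a ⟨ha1, ⟨r, hr, ha2⟩, ha3⟩
        refine ⟨K.inv_mem ha1, ⟨r⁻¹, R.inv_mem hr, ?_⟩, fun y hy hyy => ?_⟩
        · rw [← mul_inv_rev, ha2, mul_inv_rev]
        · rw [inv_mul_eq_iff_eq_mul, ← mul_assoc, ha3 y hy hyy, mul_assoc, mul_inv_cancel, mul_one] }
  have hAc : A.Characteristic := by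
    rw [Subgroup.characteristic_iff_le_comap]
    intro σ a ha
    obtain ⟨ha1, ⟨r, hr, ha2⟩, ha3⟩ := ha
    have hKσ : ∀ (σ : Q ≃* Q) (y : Q), y ∈ K → σ y ∈ K := by
      intro σ y hy
      have := (Subgroup.characteristic_iff_le_comap.1 h.charK) σ hy
      exact this
    have hRσ : ∀ (σ : Q ≃* Q) (y : Q), y ∈ R → σ y ∈ R := by
      intro σ y hy
      have := (Subgroup.characteristic_iff_le_comap.1 h.charR) σ hy
      exact this
    refine ⟨hKσ σ a ha1, ⟨σ r, hRσ σ r hr, ?_⟩, fun y hy hyy => ?_⟩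
    · show σ a * σ a = σ r * σ r
      rw [← map_mul, ha2, map_mul]
    · obtain ⟨s, hs, hyy⟩ := hyy
      have h1 := ha3 (σ.symm y) (hKσ σ.symm y hy) ⟨σ.symm s, hRσ σ.symm s hs, by
        rw [← map_mul, hyy, map_mul]⟩
      have h2 := congrArg σ h1
      rw [map_mul, map_mul, MulEquiv.apply_symm_apply] at h2
      exact h2
  have hAab : IsMulCommutative A := ⟨⟨fun a b => Subtype.ext (a.2.2.2 b b.2.1 b.2.2.1)⟩⟩
  have hAcyc : IsCyclic A := hQ.2 A hAc hAab
  have hRA : ∀ r ∈ R, r ∈ A := by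
    intro r hr
    exact ⟨h.le hr, ⟨r, hr, rfl⟩, fun y hy _ => (h.mem_K y).1 hy r hr⟩
  have hkA : (k : Q) ∈ A := by
    refine ⟨k.2, hkk, fun y hy hyy => ?_⟩
    exact congrArg Subtype.val ((hk ⟨y, hy⟩).1 ((hφ0 _).2 hyy))
  obtain ⟨⟨g, hg⟩, hggen⟩ := hAcyc.exists_generator
  have hggen' : ∀ a ∈ A, ∃ i : ℤ, g ^ i = a := by
    intro a ha
    obtain ⟨i, hi⟩ := mem_zpowers_iff.mp (hggen ⟨a, ha⟩)
    exact ⟨i, congrArg Subtype.val hi⟩
  obtain ⟨j, hj⟩ := hggen' c (hRA c hc)
  obtain ⟨m, hm⟩ := (IsPGroup.iff_orderOf.1 hQ.1) g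
  rcases Int.even_or_odd j with hje | hjo
  · -- `c` is the square of an element of `A`, hence of `R`
    obtain ⟨i, rfl⟩ := hje
    have h1 : g ^ i ∈ A := A.zpow_mem hg i
    have h2 := h1.2.1
    rw [← zpow_add, hj] at h2
    have h3 : S2 (c ^ (1 : ℤ)) := by rwa [zpow_one]
    rw [hS2i] at h3
    exact absurd h3 (by decide)
  · -- `c` generates `A`
    apply hkR
    have hcop : IsCoprime j ((2 : ℤ) ^ m) := by
      apply IsCoprime.pow_right
      obtain ⟨i, hi⟩ := hjo
      exact ⟨1, -i, by rw [hi]; ring⟩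
    obtain ⟨a, b, hab⟩ := hcop
    have hgm : g ^ ((2 : ℤ) ^ m) = 1 := by
      have := pow_orderOf_eq_one g
      rw [hm] at this
      exact_mod_cast this
    have hgc : g = c ^ a := by
      rw [← hj, ← zpow_mul, mul_comm j a]
      calc g = g ^ (a * j + b * 2 ^ m) := by rw [hab, zpow_one]
        _ = g ^ (a * j) * (g ^ ((2 : ℤ) ^ m)) ^ b := by rw [zpow_add, ← zpow_mul, mul_comm b]
        _ = g ^ (a * j) := by rw [hgm, one_zpow, mul_one]
    obtain ⟨i, hi⟩ := hggen' k hkA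
    rw [← hi, hgc]
    exact R.zpow_mem (R.zpow_mem hc a) i

end KR

end Cfsg.Agent.ClassificationK.SymplStructure
end
end

-- part: ClassificationK/SymplBig
section
set_option linter.all false
open scoped Cfsg.Agent.FastGrp

-- part: ClassificationK/SymplFront
section
/-!
# From `F*(C(z))` of symplectic type to the elementwise data (S1758, helper577)

`front`: `F*(C_G(z))` is extraspecial, or of order two, or there are `R ≤ K ≤ Q = F*(C_G(z))` with `Big Q K R z`.
-/

set_option autoImplicit false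

namespace Cfsg.Agent.ClassificationK.SymplFront

open Subgroup SymplStructure SymplSetup
open scoped commutatorElement

/-- `Q = F*(C(z))` of symplectic type, `R ≤ K` its characteristic subgroups, `|R| ≥ 4`. -/
structure Big {G : Type*} [Group G] (Q K R : Subgroup G) (z : G) : Prop where
  z_ne : z ≠ 1
  z_sq : z * z = 1
  zR : z ∈ R
  RK : R ≤ K
  KQ : K ≤ Q
  cyc : IsCyclic R
  uniq : ∀ x ∈ R, x * x = 1 → x = 1 ∨ x = z
  pgrp : IsPGroup 2 Q
  Qz : ∀ x ∈ Q, x * z = z * x
  nQ : ∀ g, g * z = z * g → ∀ x ∈ Q, g * x * g⁻¹ ∈ Q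
  nK : ∀ g, g * z = z * g → ∀ x ∈ K, g * x * g⁻¹ ∈ K
  nR : ∀ g, g * z = z * g → ∀ x ∈ R, g * x * g⁻¹ ∈ R
  selfK : ∀ g, g * z = z * g → (∀ x ∈ K, g * x = x * g) → g ∈ R
  comm_RK : ∀ r ∈ R, ∀ x ∈ K, r * x = x * r
  mem_K : ∀ x ∈ Q, (∀ r ∈ R, r * x = x * r) → x ∈ K
  sq : ∀ x ∈ K, ∃ r ∈ R, x * x = r * r
  comm : ∀ x ∈ K, ∀ y ∈ K, x * y = y * x ∨ x * y = y * x * z
  comm' : ∀ y ∈ Q, ∀ x ∈ K, y * x * y⁻¹ * x⁻¹ ∈ R
  core : ∀ N : Subgroup G, (∀ x ∈ N, x * z = z * x) →
    (∀ g, g * z = z * g → ∀ x ∈ N, g * x * g⁻¹ ∈ N) → IsPGroup 2 N → N ≤ Q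
  card : 4 ≤ Nat.card R

/-- A normal nilpotent subgroup lies in `F*`. -/
theorem le_gfs {H : Type*} [Group H] {N : Subgroup H} (hN : N.Normal) (hn : Group.IsNilpotent N) :
    N ≤ Cfsg.generalizedFittingSubgroup H :=
  (le_sSup (show N ∈ {N : Subgroup H | N.Normal ∧ Group.IsNilpotent N} from ⟨hN, hn⟩)).trans le_sup_right

/-- A group whose commutators are central is nilpotent. -/
theorem nilpotent_of_comm {N : Type*} [Group N] (h : ∀ x y w : N, ⁅x, y⁆ * w = w * ⁅x, y⁆) :
    Group.IsNilpotent N := by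
  have hle : (Abelianization.of (G := N)).ker ≤ center N := by
    rw [Abelianization.ker_of, _root_.commutator_def, commutator_le]
    intro x _ y _
    rw [mem_center_iff]
    intro w
    exact (h x y w).symm
  exact Subgroup.isNilpotent_of_ker_le_center _ hle

/-- If `c ∈ C` centralises `K`, `c ∈ R`. -/
theorem cent_mem {C : Type*} [Group C] {Q : Subgroup C} (hQn : Q.Normal)
    (hcc : centralizer (Q : Set C) ≤ Q)
    (hnil : ∀ N : Subgroup C, N.Normal → Group.IsNilpotent N → N ≤ Q) {K R : Subgroup Q} {z' : Q}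
    (h : KR K R z') {c : C} (hc : ∀ x ∈ K, c * (x : C) = x * c) : ∃ r ∈ R, (r : C) = c := by
  have hKc := h.charK
  have hRc := h.charR
  have hKn : (K.map Q.subtype).Normal := inferInstance
  set N : Subgroup C := centralizer ((K.map Q.subtype : Subgroup C) : Set C) with hN
  have hNn : N.Normal := inferInstance
  have memN : ∀ n, n ∈ N ↔ ∀ x ∈ K, n * (x : C) = x * n := by
    intro n
    rw [hN, mem_centralizer_iff]
    constructor
    · intro h1 x hx
      exact (h1 x ⟨x, hx, rfl⟩).symm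
    · rintro h1 _ ⟨x, hx, rfl⟩
      exact (h1 x hx).symm
  -- `N ∩ Q = R`
  have hNQ : ∀ n ∈ N, ∀ hq : n ∈ Q, (⟨n, hq⟩ : Q) ∈ R := by
    intro n hn hq
    apply h.cent
    intro y hy
    exact Subtype.ext ((memN n).1 hn y hy).symm
  -- `n q n⁻¹ ∈ q R`
  have hact : ∀ n ∈ N, ∀ q : Q, ∃ r ∈ R, n * (q : C) * n⁻¹ = q * (r : C) := by
    intro n hn q
    have h1 : (q : C)⁻¹ * (n * q * n⁻¹) ∈ Q :=
      Q.mul_mem (Q.inv_mem q.2) (hQn.conj_mem _ q.2 n)
    have h2 : (q : C)⁻¹ * (n * q * n⁻¹) ∈ N := by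
      have h3 := N.mul_mem (hNn.conj_mem n hn (q : C)⁻¹) (N.inv_mem hn)
      have e : (q : C)⁻¹ * n * ((q : C)⁻¹)⁻¹ * n⁻¹ = (q : C)⁻¹ * (n * q * n⁻¹) := by group
      rwa [e] at h3
    refine ⟨⟨_, h1⟩, hNQ _ h2 h1, ?_⟩
    show n * (q : C) * n⁻¹ = q * ((q : C)⁻¹ * (n * q * n⁻¹))
    group
  have hNR : ∀ n ∈ N, ∀ r ∈ R, n * (r : C) = r * n := fun n hn r hr => (memN n).1 hn r (h.le hr)
  have hRK : ∀ r ∈ R, ∀ x ∈ K, r * x = x * r := fun r hr x hx => (h.mem_K x).1 hx r hr
  have hRab : ∀ r ∈ R, ∀ s ∈ R, (r : C) * s = s * r := fun r hr s hs =>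
    congrArg Subtype.val (hRK r hr s (h.le hs))
  -- commutators of `N` centralise `Q`
  have hcomm : ∀ n ∈ N, ∀ m ∈ N, ⁅n, m⁆ ∈ Q := by
    intro n hn m hm
    apply hcc
    rw [mem_centralizer_iff]
    intro q hq
    have hni := N.inv_mem hn
    have hmi := N.inv_mem hm
    have key : ∀ n ∈ N, ∀ m ∈ N, ∀ q : Q, ∀ r ∈ R, ∀ s ∈ R, n * (q : C) * n⁻¹ = q * (r : C) →
        m * (q : C) * m⁻¹ = q * (s : C) → (n * m) * (q : C) * (n * m)⁻¹ = q * r * s := by
      intro n hn m hm q r hr s hs h1 h2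
      calc (n * m) * (q : C) * (n * m)⁻¹ = n * (m * q * m⁻¹) * n⁻¹ := by group
        _ = n * (q * s) * n⁻¹ := by rw [h2]
        _ = (n * q * n⁻¹) * (n * s * n⁻¹) := by group
        _ = q * r * s := by rw [h1, hNR n hn s hs]; group
    obtain ⟨r, hr, h1⟩ := hact _ hni ⟨q, hq⟩
    obtain ⟨s, hs, h2⟩ := hact _ hmi ⟨q, hq⟩
    have h3 := key _ hni _ hmi ⟨q, hq⟩ r hr s hs h1 h2
    have h4 := key _ hmi _ hni ⟨q, hq⟩ s hs r hr h2 h1
    have h5 : (n⁻¹ * m⁻¹) * q * (n⁻¹ * m⁻¹)⁻¹ = (m⁻¹ * n⁻¹) * q * (m⁻¹ * n⁻¹)⁻¹ := by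
      rw [h3, h4, mul_assoc, mul_assoc, hRab r hr s hs]
    have h6 : ⁅n, m⁆ * q * ⁅n, m⁆⁻¹ = q := by
      calc ⁅n, m⁆ * q * ⁅n, m⁆⁻¹ = (n * m) * ((n⁻¹ * m⁻¹) * q * (n⁻¹ * m⁻¹)⁻¹) * (n * m)⁻¹ := by
            rw [commutatorElement_def]; group
        _ = (n * m) * ((m⁻¹ * n⁻¹) * q * (m⁻¹ * n⁻¹)⁻¹) * (n * m)⁻¹ := by rw [h5]
        _ = q := by group
    rw [mul_inv_eq_iff_eq_mul] at h6
    exact h6.symm
  have hNnil : Group.IsNilpotent N := by
    apply nilpotent_of_comm
    intro x y w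
    apply Subtype.ext
    have h1 : ⁅(x : C), (y : C)⁆ ∈ Q := hcomm x x.2 y y.2
    have h2 : ⁅(x : C), (y : C)⁆ ∈ N :=
      N.mul_mem (N.mul_mem (N.mul_mem x.2 y.2) (N.inv_mem x.2)) (N.inv_mem y.2)
    have h3 := hNQ _ h2 h1
    exact (hNR w w.2 _ h3).symm
  have hNle : N ≤ Q := hnil N hNn hNnil
  have hcN : c ∈ N := (memN c).2 hc
  exact ⟨⟨c, hNle hcN⟩, hNQ c hcN _, rfl⟩

/-- **Front end**: the trichotomy for `F*(C_G(z))` of symplectic type. -/
theorem front {G : Type*} [Group G] [Finite G] (z : G) (hz : orderOf z = 2)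
    (hQ : Cfsg.IsOfSymplecticType ↥(Cfsg.generalizedFittingSubgroup ↥(centralizer ({z} : Set G)))) :
    Cfsg.IsExtraspecial 2 ↥(Cfsg.generalizedFittingSubgroup ↥(centralizer ({z} : Set G))) ∨
    Nat.card ↥(Cfsg.generalizedFittingSubgroup ↥(centralizer ({z} : Set G))) = 2 ∨
    ∃ K R : Subgroup G, Big ((Cfsg.generalizedFittingSubgroup ↥(centralizer ({z} : Set G))).map
      (centralizer ({z} : Set G)).subtype) K R z := by
  classical
  have : Fact (Nat.Prime 2) := ⟨Nat.prime_two⟩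
  set C := centralizer ({z} : Set G) with hC
  have hQn := Cfsg.Agent.S1755.gfs_normal C
  have hcen := Cfsg.Agent.S1755.center_le_gfs C
  have hcc := Cfsg.Agent.S1313.centralizer_le C
  have hnil : ∀ N : Subgroup C, N.Normal → Group.IsNilpotent N → N ≤ Cfsg.generalizedFittingSubgroup C :=
    fun N hN hn => le_gfs hN hn
  revert hQ hQn hcen hcc hnil
  generalize Cfsg.generalizedFittingSubgroup C = Q
  intro hQ hQn hcen hcc hnil
  have hzz : z * z = 1 := by rw [← pow_two, ← hz]; exact pow_orderOf_eq_one z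
  have hz1 : z ≠ 1 := by
    intro h; rw [h, orderOf_one] at hz; exact absurd hz (by norm_num)
  have memC : ∀ g, g ∈ C ↔ g * z = z * g := fun g => mem_centralizer_singleton_iff
  have hzC : z ∈ C := (memC z).2 rfl
  have hzc : (⟨z, hzC⟩ : C) ∈ center C := by
    rw [mem_center_iff]
    intro c
    exact Subtype.ext ((memC c).1 c.2)
  have hzQ : (⟨z, hzC⟩ : C) ∈ Q := hcen hzc
  set z' : Q := ⟨⟨z, hzC⟩, hzQ⟩ with hz'
  have hz'o : orderOf z' = 2 := by
    apply orderOf_eq_prime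
    · apply Subtype.ext; apply Subtype.ext
      show z ^ 2 = 1
      rw [pow_two]; exact hzz
    · intro h
      exact hz1 (congrArg (fun t : Q => ((t : C) : G)) h)
  have hz'c : z' ∈ center Q := by
    rw [mem_center_iff]
    intro q
    exact Subtype.ext (Subtype.ext ((memC q).1 (q : C).2))
  obtain ⟨K, R, h⟩ := exists_KR hQ hz'o hz'c
  obtain ⟨c, hc, hgen⟩ := h.exists_gen
  have hRz : R = zpowers c := by
    apply le_antisymm
    · intro y hy
      obtain ⟨i, hi⟩ := hgen y hy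
      exact ⟨i, hi⟩
    · rw [zpowers_le]; exact hc
  obtain ⟨n, hn⟩ := (IsPGroup.iff_orderOf.1 hQ.1) c
  have hcardR : Nat.card R = 2 ^ n := by rw [hRz, Nat.card_zpowers, hn]
  have hR2 : 2 ∣ Nat.card R := by
    have : orderOf (⟨z', h.zR⟩ : R) = 2 := by rw [Subgroup.orderOf_mk]; exact hz'o
    rw [← this]
    exact orderOf_dvd_natCard _
  by_cases hR : 4 ≤ Nat.card R
  · -- the main case
    right; right
    have lift : ∀ {B : Subgroup Q} {x : G}, x ∈ (B.map Q.subtype).map C.subtype →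
        ∃ y : Q, y ∈ B ∧ ((y : C) : G) = x := by
      rintro B _ ⟨_, ⟨y, hy, rfl⟩, rfl⟩
      exact ⟨y, hy, rfl⟩
    have hchar : ∀ {B : Subgroup Q}, B.Characteristic → ∀ g, g * z = z * g →
        ∀ x ∈ (B.map Q.subtype).map C.subtype, g * x * g⁻¹ ∈ (B.map Q.subtype).map C.subtype := by
      intro B hB g hg x hx
      have hBn : (B.map Q.subtype).Normal := inferInstance
      obtain ⟨y, hy, rfl⟩ := hx
      exact ⟨_, hBn.conj_mem y hy ⟨g, (memC g).2 hg⟩, rfl⟩
    refine ⟨(K.map Q.subtype).map C.subtype, (R.map Q.subtype).map C.subtype,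
      { z_ne := hz1
        z_sq := hzz
        zR := ⟨_, ⟨z', h.zR, rfl⟩, rfl⟩
        RK := Subgroup.map_mono (Subgroup.map_mono h.le)
        KQ := ?_
        cyc := ?_
        uniq := ?_
        pgrp := hQ.1.map _
        Qz := ?_
        nQ := ?_
        nK := hchar h.charK
        nR := hchar h.charR
        selfK := ?_
        comm_RK := ?_
        mem_K := ?_
        sq := ?_
        comm := ?_
        comm' := ?_
        core := ?_
        card := ?_ }⟩
    · rintro _ ⟨_, ⟨y, -, rfl⟩, rfl⟩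
      exact ⟨_, y.2, rfl⟩
    · have e : R ≃* ((R.map Q.subtype).map C.subtype : Subgroup G) :=
        (R.equivMapOfInjective _ Q.subtype_injective).trans
          ((R.map Q.subtype).equivMapOfInjective _ C.subtype_injective)
      have := h.cyc
      exact isCyclic_of_surjective e e.surjective
    · intro x hx hxx
      obtain ⟨y, hy, rfl⟩ := lift hx
      rcases h.uniq y hy (Subtype.ext (Subtype.ext hxx)) with h1 | h1
      · left; rw [h1]; rfl
      · right; rw [h1]
    · rintro _ ⟨x, -, rfl⟩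
      exact (memC x).1 x.2
    · intro g hg x hx
      obtain ⟨y, hy, rfl⟩ := hx
      exact ⟨_, hQn.conj_mem y hy ⟨g, (memC g).2 hg⟩, rfl⟩
    · intro g hg hx
      obtain ⟨r, hr, h1⟩ := cent_mem hQn hcc hnil h (c := ⟨g, (memC g).2 hg⟩) (fun x hx' =>
        Subtype.ext (hx _ ⟨_, ⟨x, hx', rfl⟩, rfl⟩))
      exact ⟨_, ⟨r, hr, rfl⟩, by
        show ((r : C) : G) = g
        rw [h1]⟩
    · intro r hr x hx
      obtain ⟨r, hr', rfl⟩ := lift hr
      obtain ⟨x, hx', rfl⟩ := lift hx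
      exact congrArg (fun t : Q => ((t : C) : G)) ((h.mem_K x).1 hx' r hr')
    · rintro _ ⟨x, hx, rfl⟩ hr
      refine ⟨_, ⟨⟨x, hx⟩, (h.mem_K _).2 fun r hr' => ?_, rfl⟩, rfl⟩
      exact Subtype.ext (Subtype.ext (hr _ ⟨_, ⟨r, hr', rfl⟩, rfl⟩))
    · intro x hx
      obtain ⟨x, hx', rfl⟩ := lift hx
      obtain ⟨r, hr, h1⟩ := h.sqR hQ hz'o hz'c hR hx'
      exact ⟨_, ⟨_, ⟨r, hr, rfl⟩, rfl⟩, congrArg (fun t : Q => ((t : C) : G)) h1⟩
    · intro x hx y hy
      obtain ⟨x, hx', rfl⟩ := lift hx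
      obtain ⟨y, hy', rfl⟩ := lift hy
      rcases h.comm x hx' y hy' with h1 | h1
      · exact Or.inl (congrArg (fun t : Q => ((t : C) : G)) h1)
      · exact Or.inr (congrArg (fun t : Q => ((t : C) : G)) h1)
    · rintro _ ⟨y, hy, rfl⟩ x hx
      obtain ⟨x, hx', rfl⟩ := lift hx
      exact ⟨_, ⟨_, h.comm' ⟨y, hy⟩ x hx', rfl⟩, rfl⟩
    · intro N hN1 hN2 hN3
      have hle : N ≤ C := fun x hx => (memC x).2 (hN1 x hx)
      have hNn : (N.subgroupOf C).Normal := by
        constructor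
        intro x hx g
        rw [mem_subgroupOf] at hx ⊢
        exact hN2 g ((memC g).1 g.2) x hx
      have hNp : IsPGroup 2 (N.subgroupOf C) := by
        have := hN3.comap_of_injective C.subtype C.subtype_injective
        exact this
      have hNnil : Group.IsNilpotent (N.subgroupOf C) := hNp.isNilpotent
      have h1 := hnil _ hNn hNnil
      intro x hx
      exact ⟨⟨x, hle hx⟩, h1 (mem_subgroupOf.2 hx), rfl⟩
    · rw [Subgroup.card_map_of_injective C.subtype_injective,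
        Subgroup.card_map_of_injective Q.subtype_injective]
      exact hR
  · -- `|R| = 2`
    have hn1 : n = 1 := by
      rw [hcardR] at hR hR2
      have h1 : n ≠ 0 := by
        rintro rfl
        norm_num at hR2
      by_contra h2
      have h3 : 2 ≤ n := by omega
      have h4 : 2 ^ 2 ≤ 2 ^ n := Nat.pow_le_pow_right (by norm_num) h3
      omega
    have hR2' : ∀ x ∈ R, x = 1 ∨ x = z' := by
      intro x hx
      apply h.uniq x hx
      obtain ⟨i, rfl⟩ := hgen x hx
      have hcc2 : c * c = 1 := by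
        rw [← pow_two]
        have := pow_orderOf_eq_one c
        rwa [hn, hn1, pow_one] at this
      rw [← (Commute.refl c).mul_zpow, hcc2, one_zpow]
    have hKtop : ∀ x, x ∈ K := by
      intro x
      rw [h.mem_K]
      intro y hy
      rcases hR2' y hy with h1 | h1 <;> rw [h1]
      · rw [one_mul, mul_one]
      · exact (mem_center_iff.1 hz'c x).symm
    have hRc : R = center Q := by
      apply le_antisymm
      · intro y hy
        rw [mem_center_iff]
        intro x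
        exact ((h.mem_K x).1 (hKtop x) y hy).symm
      · intro x hx
        apply h.cent
        intro y _
        exact mem_center_iff.1 hx y
    have hcardc : Nat.card (center Q) = 2 := by rw [← hRc, hcardR, hn1, pow_one]
    by_cases hab : ∃ x y : Q, x * y ≠ y * x
    · left
      refine Cfsg.Agent.J2.ExtQuot.isExtraspecial_two hQ.1 hcardc ?_ hab
      intro x
      rw [← hRc, pow_two]
      exact h.sq x (hKtop x)
    · right; left
      push Not at hab
      have htop : center Q = ⊤ := by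
        rw [eq_top_iff]
        intro x _
        rw [mem_center_iff]
        exact fun y => hab y x
      rw [htop, card_top] at hcardc
      exact hcardc

end Cfsg.Agent.ClassificationK.SymplFront
end

-- part: ClassificationK/SymplBig
section
/-!
# The cases of `Big` (S1758, helper577)

* `Big.four_extraspecial`: `|R| = 4`, `K ≠ Q` → `Q` extraspecial;
* `Big.symp`: `|R| = 4`, `K = Q ≠ R` → `Symp Q z u`;
* `Big.isPGroup_centralizer`: `K = R` → `C(z)` is a 2-group (so `C(z) = Q`);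
* `exists_commuting`: in a finite simple non-abelian group an involution commutes with another conjugate of itself.
-/

set_option autoImplicit false

namespace Cfsg.Agent.ClassificationK.SymplFront

open Subgroup SymplStructure SymplSetup

/-- By the `Z*`-theorem: an involution of a finite simple non-abelian group commutes with some conjugate `≠ z`. -/
theorem exists_commuting {G : Type*} [Group G] [Finite G] [IsSimpleGroup G] (hG : ¬ IsMulCommutative G)
    {z : G} (hz : orderOf z = 2) : ∃ g : G, g * z * g⁻¹ ≠ z ∧ (g * z * g⁻¹) * z = z * (g * z * g⁻¹) := by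
  by_contra hcon
  push Not at hcon
  have hiso : Cfsg.IsIsolatedInvolution z := by
    refine ⟨hz, fun g hg => ?_⟩
    by_contra hne
    exact hcon g hne hg.eq.symm
  have : Fact (Nat.Prime 2) := ⟨Nat.prime_two⟩
  have hp : IsPGroup 2 (zpowers z) := by
    apply IsPGroup.of_card (n := 1)
    rw [Nat.card_zpowers, hz, pow_one]
  obtain ⟨P, hP⟩ := hp.exists_le_sylow
  have htP : z ∈ P := hP (mem_zpowers z)
  obtain ⟨N, hN, hodd, hcomm⟩ := Cfsg.Agent.S0215.result P z hz htP
    (fun g hg => Cfsg.Agent.S1180.eq_of_conj_mem_isPGroup z hiso (P : Subgroup G) P.2 htP g hg)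
  rcases hN.eq_bot_or_eq_top with h | h
  · have htc : z ∈ center G := by
      rw [mem_center_iff]
      intro g
      have := hcomm g
      rw [h, mem_bot, mul_inv_eq_one, mul_inv_eq_iff_eq_mul] at this
      exact this.symm
    rcases (inferInstance : (center G).Normal).eq_bot_or_eq_top with hc | hc
    · rw [hc, mem_bot] at htc
      rw [htc, orderOf_one] at hz
      omega
    · apply hG
      refine ⟨⟨fun a b => ?_⟩⟩
      have : b ∈ center G := by rw [hc]; trivial
      exact (mem_center_iff.mp this a)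
  · rw [h, card_top] at hodd
    have h2 : 2 ∣ Nat.card G := by
      rw [← hz]; exact orderOf_dvd_natCard z
    exact (Nat.not_even_iff_odd.mpr hodd) (even_iff_two_dvd.mpr h2)

/-- Transport of `IsOfSymplecticType`. -/
theorem symplecticType_of_equiv {A B : Type*} [Group A] [Group B] (e : A ≃* B)
    (h : Cfsg.IsOfSymplecticType A) : Cfsg.IsOfSymplecticType B := by
  refine ⟨h.1.of_equiv e, fun X hX hXc => ?_⟩
  have h1 : (X.comap e.toMonoidHom).Characteristic := by
    rw [Subgroup.characteristic_iff_le_comap]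
    intro σ a ha
    have h2 := (Subgroup.characteristic_iff_le_comap.1 hX) ((e.symm.trans σ).trans e) (show e a ∈ X from ha)
    show e (σ a) ∈ X
    have h3 : ((e.symm.trans σ).trans e) (e a) = e (σ a) := by simp
    have h4 : ((e.symm.trans σ).trans e) (e a) ∈ X := h2
    rwa [h3] at h4
  have h2 : IsMulCommutative (X.comap e.toMonoidHom) := by
    refine ⟨⟨fun a b => Subtype.ext (e.injective ?_)⟩⟩
    have := hXc.is_comm.comm (⟨e a, a.2⟩ : X) ⟨e b, b.2⟩
    have h3 := congrArg Subtype.val this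
    show e ((a : A) * b) = e (b * a)
    rw [map_mul, map_mul]
    exact h3
  have h3 := h.2 _ h1 h2
  have f : (X.comap e.toMonoidHom) ≃* X :=
    { toFun := fun a => ⟨e (a : A), a.2⟩
      invFun := fun b => ⟨e.symm b, by show e (e.symm b) ∈ X; rw [e.apply_symm_apply]; exact b.2⟩
      left_inv := fun a => Subtype.ext (e.symm_apply_apply a)
      right_inv := fun b => Subtype.ext (e.apply_symm_apply b)
      map_mul' := fun a b => Subtype.ext (map_mul e (a : A) (b : A)) }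
  exact isCyclic_of_surjective f f.surjective

namespace Big

variable {G : Type*} [Group G] {Q K R : Subgroup G} {z : G}

theorem exists_gen (h : Big Q K R z) : ∃ c ∈ R, ∀ x ∈ R, ∃ i : ℤ, c ^ i = x := by
  obtain ⟨⟨c, hc⟩, hgen⟩ := h.cyc.exists_generator
  refine ⟨c, hc, fun a ha => ?_⟩
  obtain ⟨k, hk⟩ := mem_zpowers_iff.mp (hgen ⟨a, ha⟩)
  exact ⟨k, congrArg Subtype.val hk⟩

theorem z_inv (h : Big Q K R z) : z⁻¹ = z := inv_eq_of_mul_eq_one_left h.z_sq

theorem ne_mul (h : Big Q K R z) (x : G) : x ≠ x * z := fun h1 => h.z_ne (mul_eq_left.1 h1.symm)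

theorem R_eq [Finite G] (h : Big Q K R z) {c : G} (hc : c ∈ R) (hgen : ∀ x ∈ R, ∃ i : ℤ, c ^ i = x) :
    R = zpowers c ∧ ∃ n, orderOf c = 2 ^ n ∧ Nat.card R = 2 ^ n ∧ 2 ≤ n := by
  have : Fact (Nat.Prime 2) := ⟨Nat.prime_two⟩
  have hRz : R = zpowers c := by
    apply le_antisymm
    · intro y hy
      obtain ⟨i, hi⟩ := hgen y hy
      exact ⟨i, hi⟩
    · rw [zpowers_le]; exact hc
  obtain ⟨n, hn⟩ := (IsPGroup.iff_orderOf.1 h.pgrp) ⟨c, h.KQ (h.RK hc)⟩
  rw [Subgroup.orderOf_mk] at hn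
  have hcard : Nat.card R = 2 ^ n := by rw [hRz, Nat.card_zpowers, hn]
  refine ⟨hRz, n, hn, hcard, ?_⟩
  by_contra hlt
  have h4 := h.card
  rw [hcard] at h4
  have : n = 0 ∨ n = 1 := by omega
  rcases this with rfl | rfl <;> norm_num at h4

/-- An element of order four in `R`. -/
theorem exists_y [Finite G] (h : Big Q K R z) : ∃ y ∈ R, y * y = z := by
  obtain ⟨c, hc, hgen⟩ := h.exists_gen
  obtain ⟨-, n, hn, -, hn2⟩ := h.R_eq hc hgen
  refine ⟨c ^ (2 ^ (n - 2)), R.pow_mem hc _, ?_⟩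
  have e : c ^ (2 ^ (n - 2)) * c ^ (2 ^ (n - 2)) = c ^ (2 ^ (n - 1)) := by
    rw [← pow_add, ← two_mul, ← pow_succ']
    congr 2
    omega
  rw [e]
  have h2 : (c ^ (2 ^ (n - 1))) * (c ^ (2 ^ (n - 1))) = 1 := by
    rw [← pow_add, ← two_mul, ← pow_succ', Nat.sub_add_cancel (by omega), ← hn]
    exact pow_orderOf_eq_one c
  rcases h.uniq _ (R.pow_mem hc _) h2 with h3 | h3
  · exfalso
    have h4 := orderOf_dvd_of_pow_eq_one h3
    rw [hn] at h4
    have := Nat.le_of_dvd (by positivity) h4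
    have h5 : 2 ^ (n - 1) < 2 ^ n := Nat.pow_lt_pow_right (by norm_num) (by omega)
    omega
  · exact h3

/-- If `|R| = 4` then `R = {1, z, y, y z}`. -/
theorem mem_R_four [Finite G] (h : Big Q K R z) (h4 : Nat.card R = 4) {y : G} (hy : y ∈ R) (hyy : y * y = z)
    {x : G} (hx : x ∈ R) : x = 1 ∨ x = z ∨ x = y ∨ x = y * z := by
  classical
  have hyz : y * z = z * y := by rw [← hyy, mul_assoc]
  have hy1 : y ≠ 1 := by rintro rfl; exact h.z_ne (by rw [← hyy, one_mul])
  have hyz' : y ≠ z := by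
    intro h1
    rw [h1, h.z_sq] at hyy
    exact h.z_ne hyy.symm
  have hord : orderOf y = 4 := by
    have : orderOf y = 2 ^ 2 := by
      refine orderOf_eq_prime_pow (p := 2) (n := 1) ?_ ?_
      · rw [pow_one, pow_two, hyy]; exact h.z_ne
      · rw [show (2 : ℕ) ^ (1 + 1) = 2 * 2 from rfl, pow_mul, pow_two y, hyy, pow_two]; exact h.z_sq
    simpa using this
  have hRy : zpowers y = R := by
    apply Subgroup.eq_of_le_of_card_ge
    · rw [zpowers_le]; exact hy
    · rw [h4, Nat.card_zpowers, hord]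
  rw [← hRy] at hx
  obtain ⟨n, hn⟩ := mem_powers_iff_mem_zpowers.2 hx
  have hn' : y ^ n = x := hn
  rw [← hn']
  clear hn hn' hx
  induction n with
  | zero => left; rw [pow_zero]
  | succ n ih =>
    rw [pow_succ']
    rcases ih with h1 | h1 | h1 | h1 <;> rw [h1]
    · right; right; left; rw [mul_one]
    · right; right; right; rfl
    · right; left; exact hyy
    · left; rw [← mul_assoc, hyy, h.z_sq]

/-- `|R| = 4`, `K = Q ≠ R` gives `Symp`. -/
theorem symp [Finite G] (h : Big Q K R z) (h4 : Nat.card R = 4) (hKQ : K = Q) (hKR : K ≠ R) :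
    ∃ u, Symp Q z u := by
  obtain ⟨y, hy, hyy⟩ := h.exists_y
  have hR := fun x hx => h.mem_R_four h4 hy hyy (x := x) hx
  have hyz : y * z = z * y := by rw [← hyy, mul_assoc]
  have hzz := h.z_sq
  refine ⟨y, ⟨h.KQ (h.RK hy), hyy, h.z_ne, h.z_sq, ?_, h.nQ, ?_, ?_, ?_, h.core, ?_⟩⟩
  · intro x hx
    rw [← hKQ] at hx
    exact (h.comm_RK y hy x hx).symm
  · intro x hx
    rw [← hKQ] at hx
    obtain ⟨r, hr, h1⟩ := h.sq x hx
    rw [h1]
    rcases hR r hr with rfl | rfl | rfl | rfl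
    · left; rw [mul_one]
    · left; exact hzz
    · right; exact hyy
    · right
      calc y * z * (y * z) = y * (z * y) * z := by group
        _ = (y * y) * (z * z) := by rw [← hyz]; group
        _ = z := by rw [hyy, hzz, mul_one]
  · intro x hx w hw
    rw [← hKQ] at hx hw
    exact h.comm x hx w hw
  · intro g hg hc
    rw [← hKQ] at hc
    exact hR g (h.selfK g hg hc)
  · by_contra hcon
    push Not at hcon
    apply hKR
    apply le_antisymm _ h.RK
    intro x hx
    apply h.selfK x (h.Qz x (h.KQ hx))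
    intro w hw
    exact hcon x (h.KQ hx) w (h.KQ hw)

/-- `|R| = 4`, `K ≠ Q`: `Q` is extraspecial. -/
theorem four_extraspecial [Finite G] (h : Big Q K R z) (h4 : Nat.card R = 4) (hKQ : K ≠ Q) :
    Cfsg.IsExtraspecial 2 Q := by
  classical
  obtain ⟨y, hy, hyy⟩ := h.exists_y
  have hR := fun x hx => h.mem_R_four h4 hy hyy (x := x) hx
  have hyz : y * z = z * y := by rw [← hyy, mul_assoc]
  have hzz := h.z_sq
  have hyi : y⁻¹ = y * z := by rw [inv_eq_iff_mul_eq_one, ← mul_assoc, hyy, hzz]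
  have hy1 : y ≠ 1 := by rintro rfl; exact h.z_ne (by rw [← hyy, one_mul])
  have hyz' : y ≠ z := by
    intro h1
    rw [h1, hzz] at hyy
    exact h.z_ne hyy.symm
  have hQz := h.Qz
  -- elements outside `K` invert `y`
  have hinv : ∀ q ∈ Q, q ∉ K → q * y * q⁻¹ = y * z := by
    intro q hq hqK
    have h1 := h.nR q (hQz q hq) y hy
    have h2 : (q * y * q⁻¹) * (q * y * q⁻¹) = z := by
      calc (q * y * q⁻¹) * (q * y * q⁻¹) = q * (y * y) * q⁻¹ := by group
        _ = z := by rw [hyy, hQz q hq]; group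
    rcases hR _ h1 with h3 | h3 | h3 | h3
    · rw [h3, one_mul] at h2; exact absurd h2.symm h.z_ne
    · rw [h3, hzz] at h2; exact absurd h2.symm h.z_ne
    · exfalso
      apply hqK
      have h5 : y * q = q * y := by rw [mul_inv_eq_iff_eq_mul] at h3; exact h3.symm
      apply h.mem_K q hq
      intro r hr
      rcases hR r hr with rfl | rfl | rfl | rfl
      · rw [one_mul, mul_one]
      · exact (hQz q hq).symm
      · exact h5
      · rw [mul_assoc, ← hQz q hq, ← mul_assoc, h5, mul_assoc]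
    · exact h3
  have hcen : ∀ q ∈ Q, y * q = q * y → q ∈ K := by
    intro q hq h1
    by_contra h2
    have h3 := hinv q hq h2
    rw [← h1, mul_inv_cancel_right] at h3
    exact h.ne_mul y h3
  have sqK : ∀ x ∈ K, x * x = 1 ∨ x * x = z := by
    intro x hx
    obtain ⟨r, hr, h1⟩ := h.sq x hx
    rw [h1]
    rcases hR r hr with rfl | rfl | rfl | rfl
    · left; rw [mul_one]
    · left; exact hzz
    · right; exact hyy
    · right
      calc y * z * (y * z) = y * (z * y) * z := by group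
        _ = (y * y) * (z * z) := by rw [← hyz]; group
        _ = z := by rw [hyy, hzz, mul_one]
  -- commutators with `K`
  have c1 : ∀ q ∈ Q, ∀ x ∈ K, q * x * q⁻¹ = x ∨ q * x * q⁻¹ = x * z := by
    intro q hq x hx
    have h1 := h.comm' q hq x hx
    set r := q * x * q⁻¹ * x⁻¹ with hr
    have h2 : q * x * q⁻¹ = r * x := by rw [hr]; group
    have hrx := h.comm_RK r h1 x hx
    have h3 : r * r = 1 := by
      have h5 : q * (x * x) * q⁻¹ = x * x := by
        rcases sqK x hx with h6 | h6 <;> rw [h6]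
        · group
        · rw [hQz q hq]; group
      have h6 : q * (x * x) * q⁻¹ = (q * x * q⁻¹) * (q * x * q⁻¹) := by group
      rw [h6, h2] at h5
      have h7 : r * x * (r * x) = (r * r) * (x * x) := by
        calc r * x * (r * x) = r * (x * r) * x := by group
          _ = (r * r) * (x * x) := by rw [← hrx]; group
      rw [h7] at h5
      exact mul_eq_right.1 h5
    rcases h.uniq r h1 h3 with h5 | h5
    · left; rw [h2, h5, one_mul]
    · right; rw [h2, h5, ← hQz x (h.KQ hx)]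
  -- squares outside `K`
  have zq : ∀ q ∈ Q, q * z * q⁻¹ = z := by
    intro q hq; rw [hQz q hq]; group
  have hsqK : ∀ q ∈ Q, q * q ∈ K := by
    intro q hq
    by_cases hqK : q ∈ K
    · exact K.mul_mem hqK hqK
    · apply hcen _ (Q.mul_mem hq hq)
      have h1 := hinv q hq hqK
      have h2 : q * q * y * (q * q)⁻¹ = y := by
        calc q * q * y * (q * q)⁻¹ = q * (q * y * q⁻¹) * q⁻¹ := by group
          _ = q * (y * z) * q⁻¹ := by rw [h1]
          _ = (q * y * q⁻¹) * (q * z * q⁻¹) := by group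
          _ = y := by rw [h1, zq q hq, mul_assoc, hzz, mul_one]
      rw [mul_inv_eq_iff_eq_mul] at h2
      exact h2.symm
  have sqQ : ∀ q ∈ Q, q * q = 1 ∨ q * q = z := by
    intro q hq
    by_cases hqK : q ∈ K
    · exact sqK q hqK
    · have h1 : q * q ∈ R := by
        apply h.selfK _ (hQz _ (Q.mul_mem hq hq))
        intro x hx
        have h2 : q * q * x * (q * q)⁻¹ = x := by
          have e : q * q * x * (q * q)⁻¹ = q * (q * x * q⁻¹) * q⁻¹ := by group
          rw [e]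
          rcases c1 q hq x hx with h3 | h3
          · rw [h3, h3]
          · calc q * (q * x * q⁻¹) * q⁻¹ = q * (x * z) * q⁻¹ := by rw [h3]
              _ = (q * x * q⁻¹) * (q * z * q⁻¹) := by group
              _ = x := by rw [h3, zq q hq, mul_assoc, hzz, mul_one]
        rw [mul_inv_eq_iff_eq_mul] at h2
        exact h2
      have key : q * q ≠ y ∧ q * q ≠ y * z := by
        constructor
        · intro h2
          apply hqK
          apply hcen q hq
          rw [← h2]; group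
        · intro h2
          apply hqK
          apply hcen q hq
          have h3 : (y * z) * q = q * (y * z) := by rw [← h2]; group
          have h5 : y = (y * z) * z := by rw [mul_assoc, hzz, mul_one]
          rw [h5, mul_assoc, ← hQz q hq, ← mul_assoc, h3, mul_assoc]
      rcases hR _ h1 with h2 | h2 | h2 | h2
      · exact Or.inl h2
      · exact Or.inr h2
      · exact absurd h2 key.1
      · exact absurd h2 key.2
  obtain ⟨q₀, hq₀, hq₀K⟩ : ∃ q ∈ Q, q ∉ K := by
    by_contra hcon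
    push Not at hcon
    exact hKQ (le_antisymm h.KQ hcon)
  have hyQ : y ∈ Q := h.KQ (h.RK hy)
  have hzQ : z ∈ Q := h.KQ (h.RK h.zR)
  have hcenter : ∀ x : Q, x ∈ center Q ↔ (x : G) = 1 ∨ (x : G) = z := by
    intro x
    rw [mem_center_iff]
    constructor
    · intro hx
      have hx' : ∀ w ∈ Q, w * x = x * w := fun w hw => congrArg Subtype.val (hx ⟨w, hw⟩)
      have h1 : (x : G) ∈ R := h.selfK _ (hQz _ x.2) fun w hw => (hx' w (h.KQ hw)).symm
      rcases hR _ h1 with h2 | h2 | h2 | h2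
      · exact Or.inl h2
      · exact Or.inr h2
      · exfalso
        apply hq₀K
        apply hcen q₀ hq₀
        rw [← h2]; exact (hx' q₀ hq₀).symm
      · exfalso
        apply hq₀K
        apply hcen q₀ hq₀
        have h3 := hx' q₀ hq₀
        rw [h2] at h3
        have h5 : y = (y * z) * z := by rw [mul_assoc, hzz, mul_one]
        rw [h5, mul_assoc, ← hQz q₀ hq₀, ← mul_assoc, ← h3, mul_assoc]
    · intro hx w
      apply Subtype.ext
      show (w : G) * x = x * w
      rcases hx with hx | hx <;> rw [hx]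
      · rw [mul_one, one_mul]
      · exact hQz w w.2
  refine Cfsg.Agent.J2.ExtQuot.isExtraspecial_two h.pgrp ?_ ?_ ⟨⟨q₀, hq₀⟩, ⟨y, hyQ⟩, ?_⟩
  · have hzc : (⟨z, hzQ⟩ : Q) ∈ center Q := (hcenter _).2 (Or.inr rfl)
    rw [Nat.card_eq_two_iff]
    refine ⟨1, ⟨⟨z, hzQ⟩, hzc⟩, ?_, ?_⟩
    · intro he
      apply h.z_ne
      exact (congrArg (fun t : center Q => ((t : Q) : G)) he).symm
    · ext x
      simp only [Set.mem_insert_iff, Set.mem_singleton_iff, Set.mem_univ, iff_true]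
      rcases (hcenter _).1 x.2 with hx | hx
      · left; exact Subtype.ext (Subtype.ext hx)
      · right; exact Subtype.ext (Subtype.ext hx)
  · intro x
    rw [hcenter, pow_two]
    exact sqQ x x.2
  · intro he
    have h1 : q₀ * y = y * q₀ := congrArg Subtype.val he
    exact hq₀K (hcen q₀ hq₀ h1.symm)

/-- If `K = R`, `C(z)` is a 2-group. -/
theorem isPGroup_centralizer [Finite G] (h : Big Q K R z) (hKR : K = R) :
    IsPGroup 2 (centralizer ({z} : Set G)) := by
  classical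
  have : Fact (Nat.Prime 2) := ⟨Nat.prime_two⟩
  set C := centralizer ({z} : Set G) with hC
  have memC : ∀ g, g ∈ C ↔ g * z = z * g := fun g => mem_centralizer_singleton_iff
  have hRC : R ≤ C := fun x hx => (memC x).2 (h.Qz x (h.KQ (h.RK hx)))
  have hRn : (R.subgroupOf C).Normal := by
    constructor
    intro x hx g
    rw [mem_subgroupOf] at hx ⊢
    exact h.nR g ((memC g).1 g.2) x hx
  obtain ⟨c, hc, hgen⟩ := h.exists_gen
  obtain ⟨-, n, hn, hcard, hn2⟩ := h.R_eq hc hgen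
  have e : (R.subgroupOf C) ≃* R := subgroupOfEquivOfLe hRC
  have hcyc : IsCyclic (R.subgroupOf C) := by
    have := h.cyc
    exact isCyclic_of_surjective e.symm e.symm.surjective
  have hcard' : Nat.card (R.subgroupOf C) = 2 ^ n := by rw [Nat.card_congr e.toEquiv, hcard]
  let ρ : C →* MulAut (R.subgroupOf C) := MulAut.conjNormal
  have hker : ρ.ker ≤ R.subgroupOf C := by
    intro g hg
    rw [mem_subgroupOf]
    apply h.selfK g ((memC g).1 g.2)
    intro x hx
    rw [hKR] at hx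
    have h1 : ρ g = 1 := hg
    have h2 : ((ρ g ⟨⟨x, hRC hx⟩, hx⟩ : R.subgroupOf C) : C) = ⟨x, hRC hx⟩ := by rw [h1]; rfl
    have h3 : ((ρ g ⟨⟨x, hRC hx⟩, hx⟩ : R.subgroupOf C) : C) = g * ⟨x, hRC hx⟩ * g⁻¹ := rfl
    rw [h3] at h2
    have h4 := congrArg Subtype.val h2
    have h5 : (g : G) * x * (g : G)⁻¹ = x := h4
    rw [mul_inv_eq_iff_eq_mul] at h5
    exact h5
  have hkp : IsPGroup 2 ρ.ker := by
    have h1 : IsPGroup 2 (R.subgroupOf C) := IsPGroup.of_card hcard'
    exact h1.to_le hker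
  have hrange : IsPGroup 2 ρ.range := by
    have h1 : Nat.card (MulAut (R.subgroupOf C)) = 2 ^ (n - 1) := by
      rw [Nat.card_congr (IsCyclic.mulAutMulEquiv (R.subgroupOf C)).toEquiv, hcard', Nat.card_eq_fintype_card,
        ZMod.card_units_eq_totient, Nat.totient_prime_pow Nat.prime_two (by omega)]
      simp
    exact (IsPGroup.of_card h1).to_subgroup _
  intro g
  obtain ⟨k, hk⟩ := hrange ⟨ρ g, g, rfl⟩
  have h1 : g ^ (2 ^ k) ∈ ρ.ker := by
    rw [MonoidHom.mem_ker, map_pow]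
    exact congrArg Subtype.val hk
  obtain ⟨l, hl⟩ := hkp ⟨_, h1⟩
  refine ⟨k + l, ?_⟩
  rw [pow_add, pow_mul]
  exact congrArg Subtype.val hl

end Big

end Cfsg.Agent.ClassificationK.SymplFront
end
end
end
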