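import Mathlib
import Cfsg.Prelude.Def_ClassificationK
import Cfsg.Prelude.Def_Transfer
import Cfsg.Agent.Lib.Cores
import Cfsg.Agent.Lib.ComponentSolvable
import Cfsg.Agent.Lib.ClassTwoDuality
set_option linter.all false

/-!
Basic facts on groups in which the generalized Fitting subgroup of an involution centralizer is a
`2`-group, and on involutory automorphisms of extraspecial `2`-groups.
-/

set_option autoImplicit false

namespace Cfsg.Agent.ClassificationK.GF2Basics

open Subgroup Cfsg

/-- If the generalized Fitting subgroup is solvable then there are no components. -/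
theorem layer_eq_bot_of_isSolvable {G : Type*} [Group G]
    (h : Group.IsSolvable (generalizedFittingSubgroup G)) : layer G = ⊥ := by
  rw [eq_bot_iff]
  apply sSup_le
  intro K hK
  exfalso
  have hle : K ≤ generalizedFittingSubgroup G :=
    (le_sSup (a := K) (s := {K : Subgroup G | IsComponent K}) hK).trans le_sup_left
  apply Lib.ComponentSolvable.quasisimple_not_solvable hK.2
  exact Group.isSolvable_of_isSolvable_injective (Subgroup.inclusion_injective hle)

theorem genFitting_eq_fitting_of_isSolvable {G : Type*} [Group G]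
    (h : Group.IsSolvable (generalizedFittingSubgroup G)) :
    generalizedFittingSubgroup G = fittingSubgroup G := by
  have h1 : generalizedFittingSubgroup G = layer G ⊔ fittingSubgroup G := rfl
  rw [h1, layer_eq_bot_of_isSolvable h, bot_sup_eq]

theorem fittingSubgroup_normal' (G : Type*) [Group G] : (fittingSubgroup G).Normal :=
  Lib.Cores.sSup_normal _ fun _ h => h.1

theorem genFitting_normal_of_isSolvable {G : Type*} [Group G]
    (h : Group.IsSolvable (generalizedFittingSubgroup G)) :
    (generalizedFittingSubgroup G).Normal := by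
  rw [genFitting_eq_fitting_of_isSolvable h]
  exact fittingSubgroup_normal' G

theorem isSolvable_of_isPGroup {G : Type*} [Group G] [Finite G] {p : ℕ} [Fact p.Prime]
    (h : IsPGroup p G) : Group.IsSolvable G := by
  have := h.isNilpotent
  infer_instance

theorem genFitting_normal_of_isPGroup {G : Type*} [Group G] [Finite G] {p : ℕ} [Fact p.Prime]
    (h : IsPGroup p (generalizedFittingSubgroup G)) :
    (generalizedFittingSubgroup G).Normal :=
  genFitting_normal_of_isSolvable (isSolvable_of_isPGroup h)

/-- A normal nilpotent subgroup lies in `F(G)`. -/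
theorem le_fitting {G : Type*} [Group G] {N : Subgroup G} (hN : N.Normal)
    (hn : Group.IsNilpotent N) : N ≤ fittingSubgroup G :=
  le_sSup (a := N) (s := {N : Subgroup G | N.Normal ∧ Group.IsNilpotent N}) ⟨hN, hn⟩

theorem center_isNilpotent (G : Type*) [Group G] : Group.IsNilpotent (center G) := by
  let _ : CommGroup (center G) :=
    { (inferInstance : Group (center G)) with
      mul_comm := fun a b => Subtype.ext ((mem_center_iff.mp b.2) a) }
  exact CommGroup.isNilpotent

/-- The centre lies in the generalized Fitting subgroup. -/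
theorem center_le_genFitting (G : Type*) [Group G] :
    center G ≤ generalizedFittingSubgroup G :=
  (le_fitting inferInstance (center_isNilpotent G)).trans le_sup_right

/-- An element lies in the centre of its own centralizer. -/
theorem mem_center_centralizer {G : Type*} [Group G] (z : G) :
    (⟨z, mem_centralizer_singleton_iff.mpr rfl⟩ : centralizer ({z} : Set G)) ∈
      center (centralizer ({z} : Set G)) := by
  rw [mem_center_iff]
  intro g
  apply Subtype.ext
  exact mem_centralizer_singleton_iff.mp g.2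

/-- A nontrivial normal subgroup of a finite `p`-group with centre of prime order contains the
centre. -/
theorem center_le_of_normal {P : Type*} [Group P] [Finite P] {p : ℕ} [Fact p.Prime]
    (hP : IsPGroup p P) (hcard : Nat.card (center P) = p) {K : Subgroup P} (hK : K.Normal)
    (hne : K ≠ ⊥) : center P ≤ K := by
  have hfix : (p : ℕ) ∣ Nat.card (MulAction.fixedPoints (ConjAct P) K) := by
    have h1 : IsPGroup p (ConjAct P) := hP
    have h2 := h1.card_modEq_card_fixedPoints K
    have h3 : p ∣ Nat.card K := by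
      have hKp : IsPGroup p K := hP.to_subgroup K
      have : Nontrivial K := (nontrivial_iff_ne_bot K).mpr hne
      obtain ⟨n, hn0, hn⟩ := (IsPGroup.nontrivial_iff_card hKp).mp this
      rw [hn]
      exact dvd_pow_self p hn0.ne'
    exact (Nat.modEq_zero_iff_dvd.mp ((h2.symm).trans (Nat.modEq_zero_iff_dvd.mpr h3)))
  have hone : (1 : K) ∈ MulAction.fixedPoints (ConjAct P) K := by
    intro g
    exact smul_one g
  have hp2 : 1 < Nat.card (MulAction.fixedPoints (ConjAct P) K) := by
    have hpos : 0 < Nat.card (MulAction.fixedPoints (ConjAct P) K) :=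
      Nat.card_pos_iff.mpr ⟨⟨⟨1, hone⟩⟩, inferInstance⟩
    exact lt_of_lt_of_le (Fact.out : p.Prime).one_lt (Nat.le_of_dvd hpos hfix)
  rw [Finite.one_lt_card_iff_nontrivial] at hp2
  obtain ⟨⟨k, hk⟩, hk1⟩ := exists_ne (⟨1, hone⟩ : MulAction.fixedPoints (ConjAct P) K)
  have hkne : (k : P) ≠ 1 := by
    intro h
    apply hk1
    apply Subtype.ext
    exact Subtype.ext h
  have hkc : (k : P) ∈ center P := by
    rw [mem_center_iff]
    intro g
    have h1 := congrArg Subtype.val (hk (ConjAct.toConjAct g))
    have h2 : g * (k : P) * g⁻¹ = k := h1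
    calc g * (k : P) = (g * (k : P) * g⁻¹) * g := by group
      _ = k * g := by rw [h2]
  -- the subgroup of the centre generated by `k` is everything
  have htop : (K ⊓ center P).subgroupOf (center P) = ⊤ := by
    have hprime : (Nat.card (center P)).Prime := by rw [hcard]; exact Fact.out
    have : Fact (Nat.card (center P)).Prime := ⟨hprime⟩
    rcases Subgroup.eq_bot_or_eq_top_of_prime_card ((K ⊓ center P).subgroupOf (center P)) with h | h
    · exfalso
      have hmem : (⟨k, hkc⟩ : center P) ∈ (K ⊓ center P).subgroupOf (center P) := by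
        rw [mem_subgroupOf]
        exact ⟨k.2, hkc⟩
      rw [h, mem_bot] at hmem
      exact hkne (congrArg Subtype.val hmem)
    · exact h
  rw [subgroupOf_eq_top] at htop
  exact htop.trans inf_le_left

section Involutory

variable {Q : Type*} [Group Q] [Finite Q]

/-- The commutator subgroup `[σ, Q]` of an automorphism. -/
def commAut (σ : Q ≃* Q) : Subgroup Q := closure (Set.range fun q => σ q * q⁻¹)

omit [Finite Q] in
theorem commAut_def (σ : Q ≃* Q) : commAut σ = closure (Set.range fun q => σ q * q⁻¹) := rfl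

omit [Finite Q] in
theorem mem_commAut (σ : Q ≃* Q) (q : Q) : σ q * q⁻¹ ∈ commAut σ :=
  subset_closure ⟨q, rfl⟩

omit [Finite Q] in
theorem commAut_normal (σ : Q ≃* Q) : (commAut σ).Normal := by
  constructor
  intro n hn g
  induction hn using closure_induction with
  | mem x hx =>
    obtain ⟨q, rfl⟩ := hx
    have h1 : g * (σ q * q⁻¹) * g⁻¹ = (σ g * g⁻¹)⁻¹ * (σ (g * q) * (g * q)⁻¹) := by
      rw [map_mul]; group
    simp only
    rw [h1]
    exact mul_mem (inv_mem (mem_commAut σ g)) (mem_commAut σ (g * q))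
  | one => rw [mul_one, mul_inv_cancel]; exact one_mem _
  | mul x y _ _ hx hy =>
    have : g * (x * y) * g⁻¹ = (g * x * g⁻¹) * (g * y * g⁻¹) := by group
    rw [this]; exact mul_mem hx hy
  | inv x _ hx =>
    have : g * x⁻¹ * g⁻¹ = (g * x * g⁻¹)⁻¹ := by group
    rw [this]; exact inv_mem hx

omit [Finite Q] in
theorem commAut_ne_bot {σ : Q ≃* Q} (h : ∃ x, σ x ≠ x) : commAut σ ≠ ⊥ := by
  obtain ⟨x, hx⟩ := h
  intro hbot
  have := mem_commAut σ x
  rw [hbot, mem_bot] at this
  exact hx (mul_inv_eq_one.mp this)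

open scoped commutatorElement

omit [Finite Q] in
/-- `C_Q([Q, σ]) = {q | σ(q) q⁻¹ ∈ Z(Q)}` when `Q` has class at most two and `σ` centralizes
`Z(Q)`. -/
theorem mem_centralizer_commAut_iff (hc : _root_.commutator Q ≤ center Q) (σ : Q ≃* Q)
    (hσ : ∀ x ∈ center Q, σ x = x) (x : Q) :
    x ∈ centralizer (commAut σ : Set Q) ↔ σ x * x⁻¹ ∈ center Q := by
  have key1 : ∀ y : Q, ⁅x, σ y * y⁻¹⁆ = 1 ↔ ⁅x, σ y⁆ = ⁅x, y⁆ := by
    intro y
    rw [Lib.ClassTwoDuality.comm_mul_right hc, mul_eq_one_iff_eq_inv]
    have h : ⁅x, y⁻¹⁆ = ⁅x, y⁆⁻¹ := by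
      rw [← mul_eq_one_iff_eq_inv, ← Lib.ClassTwoDuality.comm_mul_right hc, inv_mul_cancel,
        commutatorElement_one_right]
    rw [h, inv_inv]
  have key2 : ∀ y : Q, ⁅σ x * x⁻¹, y⁆ = 1 ↔ ⁅σ x, y⁆ = ⁅x, y⁆ := by
    intro y
    rw [Lib.ClassTwoDuality.comm_mul_left hc, mul_eq_one_iff_eq_inv]
    have h : ⁅x⁻¹, y⁆ = ⁅x, y⁆⁻¹ := by
      rw [← mul_eq_one_iff_eq_inv, ← Lib.ClassTwoDuality.comm_mul_left hc, inv_mul_cancel,
        commutatorElement_one_left]
    rw [h, inv_inv]
  have key3 : ∀ y : Q, ⁅σ x, σ y⁆ = ⁅x, y⁆ := by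
    intro y
    rw [← map_commutatorElement]
    exact hσ _ (Lib.ClassTwoDuality.comm_mem_center hc x y)
  rw [mem_center_iff]
  constructor
  · intro h w
    obtain ⟨y, rfl⟩ := σ.surjective w
    have h1 : ⁅x, σ y * y⁻¹⁆ = 1 :=
      commutatorElement_eq_one_iff_mul_comm.mpr
        ((mem_centralizer_iff.mp h) _ (mem_commAut σ y)).symm
    have h2 := (key1 y).mp h1
    have h3 : ⁅σ x * x⁻¹, σ y⁆ = 1 := by
      rw [key2, key3, h2]
    exact (commutatorElement_eq_one_iff_mul_comm.mp h3).symm
  · intro h
    have : commAut σ ≤ centralizer ({x} : Set Q) := by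
      rw [commAut_def, closure_le]
      rintro _ ⟨y, rfl⟩
      have h3 : ⁅σ x * x⁻¹, σ y⁆ = 1 := commutatorElement_eq_one_iff_mul_comm.mpr (h (σ y)).symm
      rw [key2, key3] at h3
      have h4 : ⁅x, σ y * y⁻¹⁆ = 1 := (key1 y).mpr h3.symm
      exact mem_centralizer_singleton_iff.mpr (commutatorElement_eq_one_iff_mul_comm.mp h4).symm
    rw [mem_centralizer_iff]
    intro y hy
    exact mem_centralizer_singleton_iff.mp (this hy)

omit [Finite Q] in
/-- In a group whose commutator subgroup lies in a centre of order two, squares are central. -/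
theorem sq_mem_center (hc : _root_.commutator Q ≤ center Q) (hcard : Nat.card (center Q) = 2)
    (x : Q) : x * x ∈ center Q := by
  rw [mem_center_iff]
  intro y
  have h1 : ⁅x * x, y⁆ = 1 := by
    rw [Lib.ClassTwoDuality.comm_mul_left hc, ← sq]
    have h2 : (⟨⁅x, y⁆, Lib.ClassTwoDuality.comm_mem_center hc x y⟩ : center Q) ^ 2 = 1 := by
      rw [← hcard]; exact pow_card_eq_one'
    exact congrArg Subtype.val h2
  exact (commutatorElement_eq_one_iff_mul_comm.mp h1).symm

omit [Finite Q] in
/-- An automorphism fixes a centre of order two pointwise. -/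
theorem aut_fix_center (hcard : Nat.card (center Q) = 2) (σ : Q ≃* Q) (x : Q)
    (hx : x ∈ center Q) : σ x = x := by
  have hσx : σ x ∈ center Q := by
    have h := (characteristic_iff_map_le.mp (inferInstance : (center Q).Characteristic)) σ
    exact h ⟨x, hx, rfl⟩
  by_cases h1 : x = 1
  · rw [h1, map_one]
  have hfin : Finite (center Q) := Nat.finite_of_card_ne_zero (by rw [hcard]; norm_num)
  have hσ1 : σ x ≠ 1 := fun h => h1 ((map_eq_one_iff σ σ.injective).mp h)
  -- two nonidentity elements of a group of order two are equal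
  by_contra hne
  have hlt : 2 < Nat.card (center Q) := by
    have := Fintype.ofFinite (center Q)
    rw [Nat.card_eq_fintype_card, Fintype.two_lt_card_iff]
    exact ⟨⟨σ x, hσx⟩, ⟨x, hx⟩, 1, fun h => hne (congrArg Subtype.val h),
      fun h => hσ1 (congrArg Subtype.val h), fun h => h1 (congrArg Subtype.val h)⟩
  omega

/-- **Key lemma**: for an involutory nontrivial automorphism `σ` of an extraspecial `2`-group `Q`,
`[σ, Q]` is the centre of `{q | σ(q) q⁻¹ ∈ Z(Q)}`. -/
theorem mem_commAut_iff (hQ : IsExtraspecial 2 Q) (σ : Q ≃* Q) (hσ2 : ∀ x, σ (σ x) = x)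
    (hσne : ∃ x, σ x ≠ x) (x : Q) :
    x ∈ commAut σ ↔ (σ x * x⁻¹ ∈ center Q ∧ ∀ y, σ y * y⁻¹ ∈ center Q → y * x = x * y) := by
  obtain ⟨⟨hp, -, hcomm⟩, hcard⟩ := hQ
  have hc : _root_.commutator Q ≤ center Q := hcomm.le
  have hfix := aut_fix_center hcard σ
  have hcyc : IsCyclic (center Q) := isCyclic_of_prime_card hcard
  have hle : center Q ≤ commAut σ :=
    center_le_of_normal hp hcard (commAut_normal σ) (commAut_ne_bot hσne)
  have hiff := mem_centralizer_commAut_iff hc σ hfix
  have hdc := Lib.ClassTwoDuality.centralizer_centralizer_eq hc hcyc (commAut σ) hle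
  constructor
  · intro hx
    have h2 : ∀ y, σ y * y⁻¹ ∈ center Q → y * x = x * y := by
      intro y hy
      exact ((mem_centralizer_iff.mp ((hiff y).mpr hy)) x hx).symm
    refine ⟨?_, h2⟩
    -- `commAut σ ≤ {x | σ x * x⁻¹ ∈ Z}`
    rw [← hiff]
    have hK : commAut σ ≤ centralizer (commAut σ : Set Q) := by
      conv_lhs => rw [commAut_def]
      rw [closure_le]
      rintro _ ⟨q, rfl⟩
      rw [SetLike.mem_coe, hiff]
      have h3 : σ (σ q * q⁻¹) * (σ q * q⁻¹)⁻¹ = ((σ q * q⁻¹) * (σ q * q⁻¹))⁻¹ := by
        rw [map_mul, hσ2, map_inv]; group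
      simp only
      rw [h3]
      exact inv_mem (sq_mem_center hc hcard _)
    exact hK hx
  · rintro ⟨-, h2⟩
    rw [← hdc, mem_centralizer_iff]
    intro y hy
    exact h2 y ((hiff y).mp hy)

end Involutory

end Cfsg.Agent.ClassificationK.GF2Basics
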